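import Cfsg.Agent.AschCrit.Basic
import Cfsg.Agent.S0215
import Cfsg.Agent.Lib.Cores

/-!
# Aschbacher's criterion without faithfulness: the kernel of the action

`Setup G Ω z`, `N₀` the kernel of the action of `G` on `Ω`.

* `odd_of_ker` : if `z · gzg⁻¹` acts trivially then it has odd order
* `commutator_mem` : `[z, N₀] ≤ N₀ ∩ O(G)`
* `commutator_closure` : `[K, N₀] ≤ N₀ ∩ O(G)` for `K` the normal closure of `z`
-/

set_option autoImplicit false

open Subgroup

namespace Cfsg.Agent.H23.AschKer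

open Cfsg.Agent.TwoFusion.StronglyEmbeddedBasic Cfsg.Agent.AschCrit.Basic
open Cfsg.Agent.AschCrit.Basic.Setup

variable {G Ω : Type*} [Group G] [MulAction G Ω] {z : G}

/-- the kernel of the action -/
def ker (G Ω : Type*) [Group G] [MulAction G Ω] : Subgroup G := (MulAction.toPermHom G Ω).ker

theorem mem_ker {g : G} : g ∈ ker G Ω ↔ ∀ a : Ω, g • a = a := by
  rw [ker, MonoidHom.mem_ker]
  constructor
  · intro h a
    exact congrArg (fun σ : Equiv.Perm Ω => σ a) h
  · intro h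
    ext a
    exact h a

instance ker_normal : (ker G Ω).Normal := by
  unfold ker; infer_instance

/-- the kernel core -/
def kcore (G Ω : Type*) [Group G] [MulAction G Ω] : Subgroup G :=
  ker G Ω ⊓ pPrimeCore 2 G

instance kcore_normal : (kcore G Ω).Normal := by
  unfold kcore; infer_instance

theorem odd_kcore [Finite G] : Odd (Nat.card (kcore G Ω)) := by
  have h1 : Odd (Nat.card (pPrimeCore 2 G)) :=
    Nat.coprime_two_right.mp (Cfsg.Agent.Lib.Cores.pPrimeCore_coprime 2)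
  exact h1.of_dvd_nat (Subgroup.card_dvd_of_le inf_le_right)

/-- an involution `w` of the kernel: for two different points there are commuting elements of `D` -/
theorem exists_ne [Finite G] (h : Setup G Ω z) {a : Ω} : ∃ b : Ω, a ≠ b := by
  obtain ⟨p, q, hpq⟩ := h.nontriv
  by_cases hap : a = p
  · exact ⟨q, by rw [hap]; exact hpq⟩
  · exact ⟨p, hap⟩

theorem odd_of_ker [Finite G] (h : Setup G Ω z) {g : G} (hg : z * (g * z * g⁻¹) ∈ ker G Ω) :
    Odd (orderOf (z * (g * z * g⁻¹))) := by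
  by_contra hodd
  obtain ⟨w, hw, hw2, hwz, -, hwc⟩ := exists_central z (g * z * g⁻¹) h.invol
    (by rw [orderOf_conj, h.invol]) (orderOf_pos _) hodd
  have hww := mul_self_of_orderOf hw2
  have hwker : w ∈ ker G Ω := (zpowers_le.mpr hg) hw
  have hzw : IsConj z (z * w) := by
    rcases hwc with hc | hc
    · exact hc
    · exact (isConj_iff.mpr ⟨g, rfl⟩ : IsConj z (g * z * g⁻¹)).trans hc
  have hw1 : w ≠ 1 := by
    intro h1; rw [h1, orderOf_one] at hw2; exact absurd hw2 (by norm_num)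
  obtain ⟨a, ha⟩ := h.exists_fix
  obtain ⟨b, hab⟩ := exists_ne h (a := a)
  obtain ⟨d, hd, hdw⟩ := h.exists_commute_of_mul_self hww (mem_ker.mp hwker b)
  have hprod : z * (z * w) = w := by rw [← mul_assoc, mul_self_of_orderOf h.invol, one_mul]
  have := h.comm' (IsConj.refl z) hzw ((Commute.refl z).mul_right hwz.symm)
    (fun hh => hw1 (by simpa using hh.symm)) (c := d) (by rw [hprod]; exact hdw) ha
  exact hab (h.uniq hd.1 this hd.2)

/-- `[z, N₀] ≤ N₀ ∩ O(G)` -/
theorem commutator_mem [Finite G] (h : Setup G Ω z) {n : G} (hn : n ∈ ker G Ω) :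
    z * n * z⁻¹ * n⁻¹ ∈ kcore G Ω := by
  set Y : Subgroup G := (zpowers (MulAction.toPermHom G Ω z)).comap (MulAction.toPermHom G Ω)
    with hY
  have hzY : z ∈ Y := mem_zpowers _
  have hNY : ker G Ω ≤ Y := by
    intro x hx
    rw [hY, Subgroup.mem_comap, MonoidHom.mem_ker.mp hx]
    exact one_mem _
  have hiso : Cfsg.Agent.Involutions.ZStar.Iso (⟨z, hzY⟩ : Y) := by
    refine ⟨Subtype.ext (mul_self_of_orderOf h.invol), ?_⟩
    rintro ⟨g, hg⟩
    have h1 : z * (g * z * g⁻¹) ∈ ker G Ω := by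
      rw [ker, MonoidHom.mem_ker, map_mul, map_mul, map_mul, map_inv]
      have h2 : Commute (MulAction.toPermHom G Ω g) (MulAction.toPermHom G Ω z) := by
        obtain ⟨k, hk⟩ := mem_zpowers_iff.mp (show MulAction.toPermHom G Ω g ∈ _ from hg)
        rw [← hk]
        exact (Commute.refl _).zpow_left k
      rw [h2.eq, mul_assoc, mul_inv_cancel, mul_one, ← map_mul, mul_self_of_orderOf h.invol,
        map_one]
    have h3 := odd_of_ker h h1
    have h4 : ((⟨z, hzY⟩ * (⟨g, hg⟩ * ⟨z, hzY⟩ * ⟨g, hg⟩⁻¹) : Y) : G) = z * (g * z * g⁻¹) := rfl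
    rw [← h4, Subgroup.orderOf_coe] at h3
    exact h3
  have h5 := Cfsg.Agent.S0215.iso_commutator _ hiso ⟨n, hNY hn⟩
  have h6 : z * n * z⁻¹ * n⁻¹ ∈ ker G Ω :=
    mul_mem (ker_normal.conj_mem n hn z) (inv_mem hn)
  -- the group `A`
  set A : Subgroup G := (pPrimeCore 2 Y).map Y.subtype ⊓ ker G Ω with hA
  have hAodd : (Nat.card (A.subgroupOf (ker G Ω))).Coprime 2 := by
    have e1 : Nat.card (A.subgroupOf (ker G Ω)) = Nat.card A := by
      exact Nat.card_congr (Subgroup.subgroupOfEquivOfLe inf_le_right).toEquiv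
    rw [e1]
    have h7 : (Nat.card ((pPrimeCore 2 Y).map Y.subtype)).Coprime 2 := by
      rw [card_map_of_injective Y.subtype_injective]
      exact Cfsg.Agent.Lib.Cores.pPrimeCore_coprime 2
    exact h7.coprime_dvd_left (Subgroup.card_dvd_of_le inf_le_left)
  have hAn : (A.subgroupOf (ker G Ω)).Normal := by
    refine ⟨?_⟩
    rintro ⟨x, hx⟩ hxA ⟨g, hg⟩
    rw [Subgroup.mem_subgroupOf] at hxA ⊢
    obtain ⟨⟨y, hy, hyx⟩, -⟩ := hxA
    refine ⟨⟨⟨g, hNY hg⟩ * y * ⟨g, hNY hg⟩⁻¹, ?_, ?_⟩, ?_⟩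
    · exact (Cfsg.Agent.Lib.Cores.pPrimeCore_normal 2).conj_mem _ hy _
    · show g * (y : G) * g⁻¹ = g * x * g⁻¹
      have : (y : G) = x := hyx
      rw [this]
    · exact ker_normal.conj_mem x hx g
  have h8 := Cfsg.Agent.Lib.Cores.le_pPrimeCore hAn hAodd
  have h9 : (⟨z * n * z⁻¹ * n⁻¹, h6⟩ : ker G Ω) ∈ pPrimeCore 2 (ker G Ω) := by
    apply h8
    rw [Subgroup.mem_subgroupOf]
    exact ⟨⟨_, h5, rfl⟩, h6⟩
  refine ⟨h6, ?_⟩
  have h10 := Cfsg.Agent.Lib.Cores.map_subtype_pPrimeCore 2 (ker_normal (G := G) (Ω := Ω))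
  have h11 : z * n * z⁻¹ * n⁻¹ ∈ (pPrimeCore 2 (ker G Ω)).map (ker G Ω).subtype := ⟨_, h9, rfl⟩
  rw [h10] at h11
  exact h11.2

/-- `[K, N₀] ≤ N₀ ∩ O(G)` for `K` the normal closure of `z` -/
theorem commutator_closure [Finite G] (h : Setup G Ω z) {k n : G}
    (hk : k ∈ normalClosure ({z} : Set G)) (hn : n ∈ ker G Ω) :
    k * n * k⁻¹ * n⁻¹ ∈ kcore G Ω := by
  -- the centraliser of the kernel modulo the core
  let C : Subgroup G := ((centralizer (((ker G Ω).map (QuotientGroup.mk' (kcore G Ω)) :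
    Subgroup (G ⧸ kcore G Ω)) : Set (G ⧸ kcore G Ω))).comap (QuotientGroup.mk' (kcore G Ω)))
  have hmemC : ∀ x : G, x ∈ C ↔ ∀ m ∈ ker G Ω, x * m * x⁻¹ * m⁻¹ ∈ kcore G Ω := by
    intro x
    rw [Subgroup.mem_comap, mem_centralizer_iff]
    constructor
    · intro hx m hm
      have h1 := hx _ ⟨m, hm, rfl⟩
      rw [← QuotientGroup.eq_one_iff]
      rw [QuotientGroup.mk'_apply, QuotientGroup.mk'_apply] at h1
      rw [QuotientGroup.mk_mul, QuotientGroup.mk_mul, QuotientGroup.mk_mul, ← h1]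
      simp
    · rintro hx _ ⟨m, hm, rfl⟩
      have h1 := hx m hm
      rw [← QuotientGroup.eq_one_iff] at h1
      rw [QuotientGroup.mk'_apply, QuotientGroup.mk'_apply]
      rw [QuotientGroup.mk_mul, QuotientGroup.mk_mul, QuotientGroup.mk_mul,
        QuotientGroup.mk_inv, QuotientGroup.mk_inv] at h1
      rw [mul_inv_eq_one, mul_inv_eq_iff_eq_mul] at h1
      exact h1.symm
  have hCn : C.Normal := by
    have : ((ker G Ω).map (QuotientGroup.mk' (kcore G Ω))).Normal :=
      ker_normal.map _ (QuotientGroup.mk'_surjective _)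
    infer_instance
  have hle : normalClosure ({z} : Set G) ≤ C := by
    refine normalClosure_le_normal ?_
    rw [Set.singleton_subset_iff]
    exact (hmemC _).mpr fun m hm => commutator_mem h hm
  exact (hmemC k).mp (hle hk) n hn

/-- two involutions with product of odd order are conjugate by a power of the product -/
theorem exists_zpowers_conj {a b : G} (ha : a * a = 1) (hb : b * b = 1)
    (hab : Odd (orderOf (a * b))) : ∃ c ∈ zpowers (a * b), c * a * c⁻¹ = b := by
  obtain ⟨k, hk⟩ := hab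
  have hai : a⁻¹ = a := inv_eq_of_mul_eq_one_left ha
  have hbi : b⁻¹ = b := inv_eq_of_mul_eq_one_left hb
  set w := a * b with hw
  have hwi : w⁻¹ = b * a := by rw [hw, mul_inv_rev, hai, hbi]
  have hw1 : w ^ (2 * k + 1) = 1 := by rw [← hk]; exact pow_orderOf_eq_one w
  have hsa : SemiconjBy a w w⁻¹ := by
    show a * w = w⁻¹ * a
    rw [hwi, hw, ← mul_assoc, ha, mul_assoc, ha]; simp
  have hpa : ∀ j : ℕ, a * w ^ j = (w ^ j)⁻¹ * a := by
    intro j
    have := (hsa.pow_right j).eq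
    rwa [inv_pow] at this
  refine ⟨(w ^ (k + 1))⁻¹, inv_mem (pow_mem (mem_zpowers w) _), ?_⟩
  rw [inv_inv, mul_assoc, hpa, ← mul_assoc, ← mul_inv_rev, ← pow_add]
  have e1 : k + 1 + (k + 1) = (2 * k + 1) + 1 := by ring
  rw [e1, pow_succ, hw1, one_mul, hwi, mul_assoc, ha, mul_one]

theorem pow_mem_kcore_iff [Finite G] {W : Subgroup G} (hodd : Odd (Nat.card W))
    {l : G} (hl : l * l ∈ W) (hlW : l ∉ W) :
    l ^ (orderOf (l * l)) * l ^ (orderOf (l * l)) = 1 ∧ l ^ (orderOf (l * l)) ≠ 1 ∧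
      (l ^ (orderOf (l * l)))⁻¹ * l ∈ W := by
  set m := orderOf (l * l) with hm
  have hmo : Odd m := by
    have : m ∣ Nat.card W := by
      rw [hm, ← Subgroup.orderOf_mk (l * l) hl]; exact orderOf_dvd_natCard _
    exact hodd.of_dvd_nat this
  have h1 : l ^ m * l ^ m = 1 := by
    rw [← pow_add, ← two_mul, pow_mul, pow_two, hm, pow_orderOf_eq_one]
  obtain ⟨k, hk⟩ := hmo
  have h2 : l ^ (2 * k) ∈ W := by rw [pow_mul, pow_two]; exact W.pow_mem hl k
  have h3 : (l ^ m)⁻¹ * l ∈ W := by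
    rw [hk, pow_succ', mul_inv_rev, mul_assoc, inv_mul_cancel, mul_one]
    exact W.inv_mem h2
  refine ⟨h1, ?_, h3⟩
  intro h4
  rw [h4] at h3
  exact hlW (by simpa using h3)

/-- a conjugate of `z` in `x W` commuting with the involution `u` of the kernel -/
theorem exists_commute_mod [Finite G] (h : Setup G Ω z) {u x : G} (hu : u * u = 1)
    (huk : u ∈ ker G Ω) (hx : IsConj z x) :
    ∃ y : G, IsConj z y ∧ Commute y u ∧ y⁻¹ * x ∈ kcore G Ω := by
  have hxK : x ∈ normalClosure ({z} : Set G) := by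
    obtain ⟨g, rfl⟩ := isConj_iff.mp hx
    exact normalClosure_normal.conj_mem _ (subset_normalClosure (Set.mem_singleton z)) g
  have hxx := h.mul_self hx
  have hui : u⁻¹ = u := inv_eq_of_mul_eq_one_left hu
  have hxi := h.inv_eq hx
  -- `u · x u x⁻¹ ∈ W`
  have h1 : u * (x * u * x⁻¹) ∈ kcore G Ω := by
    have := commutator_closure h hxK huk
    have h2 := (kcore_normal (G := G) (Ω := Ω)).conj_mem _ this u
    have e : u * (x * u * x⁻¹ * u⁻¹) * u⁻¹ = u * (x * u * x⁻¹) := by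
      rw [hui]
      calc u * (x * u * x⁻¹ * u) * u = u * (x * u * x⁻¹) * (u * u) := by group
        _ = _ := by rw [hu, mul_one]
    rwa [e] at h2
  have hodd : Odd (orderOf (u * (x * u * x⁻¹))) := by
    have : orderOf (u * (x * u * x⁻¹)) ∣ Nat.card (kcore G Ω) := by
      rw [← Subgroup.orderOf_mk _ h1]; exact orderOf_dvd_natCard _
    exact odd_kcore.of_dvd_nat this
  have hxu : (x * u * x⁻¹) * (x * u * x⁻¹) = 1 := by
    calc (x * u * x⁻¹) * (x * u * x⁻¹) = x * (u * u) * x⁻¹ := by group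
      _ = 1 := by rw [hu]; group
  obtain ⟨c, hc, hcu⟩ := exists_zpowers_conj hu hxu hodd
  have hcW : c ∈ kcore G Ω := (zpowers_le.mpr h1) hc
  -- `l = c⁻¹ x` commutes with `u`
  set l := c⁻¹ * x with hl
  have hlu : Commute l u := by
    show c⁻¹ * x * u = u * (c⁻¹ * x)
    calc c⁻¹ * x * u = c⁻¹ * (x * u * x⁻¹) * x := by group
      _ = c⁻¹ * (c * u * c⁻¹) * x := by rw [hcu]
      _ = u * (c⁻¹ * x) := by group
  have hlx : l⁻¹ * x ∈ kcore G Ω := by
    have e : l⁻¹ * x = x⁻¹ * c * x := by rw [hl]; group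
    rw [e]
    have := (kcore_normal (G := G) (Ω := Ω)).conj_mem c hcW x⁻¹
    rwa [inv_inv] at this
  have hll : l * l ∈ kcore G Ω := by
    have e : l * l = c⁻¹ * (x * c⁻¹ * x⁻¹) := by
      rw [hl]
      calc c⁻¹ * x * (c⁻¹ * x) = c⁻¹ * (x * c⁻¹ * x⁻¹) * (x * x) := by group
        _ = _ := by rw [hxx, mul_one]
    rw [e]
    exact mul_mem (inv_mem hcW) (kcore_normal.conj_mem _ (inv_mem hcW) x)
  have hxk : x ∉ ker G Ω := by
    intro hxk
    obtain ⟨a, b, hab⟩ := h.nontriv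
    exact hab (h.uniq hx (mem_ker.mp hxk a) (mem_ker.mp hxk b))
  have hlW : l ∉ kcore G Ω := by
    intro hlW
    apply hxk
    have : x = l * (l⁻¹ * x) := by group
    rw [this]
    exact (mul_mem hlW hlx).1
  obtain ⟨h3, h4, h5⟩ := pow_mem_kcore_iff odd_kcore hll hlW
  set y := l ^ (orderOf (l * l)) with hy
  have hyu : Commute y u := hlu.pow_left _
  have hyx : y⁻¹ * x ∈ kcore G Ω := by
    have e : y⁻¹ * x = (y⁻¹ * l) * (l⁻¹ * x) := by group
    rw [e]; exact mul_mem h5 hlx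
  refine ⟨y, ?_, hyu, hyx⟩
  -- `x` and `y` are conjugate
  have hyi : y⁻¹ = y := inv_eq_of_mul_eq_one_left h3
  have h6 : x * y ∈ kcore G Ω := by
    have h7 := inv_mem hyx
    rw [mul_inv_rev, inv_inv, hxi] at h7
    exact h7
  have hodd2 : Odd (orderOf (x * y)) := by
    have : orderOf (x * y) ∣ Nat.card (kcore G Ω) := by
      rw [← Subgroup.orderOf_mk _ h6]; exact orderOf_dvd_natCard _
    exact odd_kcore.of_dvd_nat this
  obtain ⟨c', -, hc'⟩ := exists_zpowers_conj hxx h3 hodd2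
  exact hx.trans (isConj_iff.mpr ⟨c', hc'⟩)

/-- an involution of `K ∩ N₀` gives an involution of `⟨D ∩ C(u)⟩ ∩ N₀` -/
theorem exists_mem_closure [Finite G] (h : Setup G Ω z) {u : G} (hu : orderOf u = 2)
    (huk : u ∈ ker G Ω) (huK : u ∈ normalClosure ({z} : Set G)) :
    ∃ v ∈ closure {x : G | IsConj z x ∧ x * u = u * x}, orderOf v = 2 ∧ v ∈ ker G Ω := by
  set Lu := closure {x : G | IsConj z x ∧ x * u = u * x} with hLu
  have huu := mul_self_of_orderOf hu
  have hle : normalClosure ({z} : Set G) ≤ Lu ⊔ kcore G Ω := by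
    rw [normalClosure, closure_le]
    intro x hx
    rw [Group.mem_conjugatesOfSet_iff] at hx
    obtain ⟨z', hz', hzx⟩ := hx
    rw [Set.mem_singleton_iff] at hz'
    rw [hz'] at hzx
    obtain ⟨y, hy, hyu, hyx⟩ := exists_commute_mod h huu huk hzx
    have e : x = y * (y⁻¹ * x) := by group
    rw [SetLike.mem_coe, e]
    exact mul_mem (mem_sup_left (subset_closure ⟨hy, hyu.eq⟩)) (mem_sup_right hyx)
  have hmem : u ∈ ((Lu ⊔ kcore G Ω : Subgroup G) : Set G) := hle huK
  rw [Subgroup.mul_normal] at hmem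
  obtain ⟨l, hl, w, hw, hlw'⟩ := hmem
  have hlw : l * w = u := hlw'
  have hlk : l ∈ ker G Ω := by
    have e : l = u * w⁻¹ := by rw [← hlw]; group
    rw [e]; exact mul_mem huk (inv_mem hw.1)
  have huW : u ∉ kcore G Ω := by
    intro hc
    have h1 : orderOf u ∣ Nat.card (kcore G Ω) := by
      rw [← Subgroup.orderOf_mk _ hc]; exact orderOf_dvd_natCard _
    have h2 := odd_kcore.of_dvd_nat h1
    rw [hu] at h2
    exact absurd h2 (by decide)
  have hlW : l ∉ kcore G Ω := by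
    intro hc
    apply huW
    rw [← hlw]; exact mul_mem hc hw
  have hll : l * l ∈ kcore G Ω := by
    have e : l * l = (u * w⁻¹ * u⁻¹) * w⁻¹ := by
      have hui : u⁻¹ = u := inv_eq_of_mul_eq_one_left huu
      have e : l = u * w⁻¹ := by rw [← hlw]; group
      rw [e, hui]; group
    rw [e]
    exact mul_mem (kcore_normal.conj_mem _ (inv_mem hw) u) (inv_mem hw)
  obtain ⟨h3, h4, -⟩ := pow_mem_kcore_iff odd_kcore hll hlW
  exact ⟨_, pow_mem hl _, orderOf_eq_two_of_mul_self h3 h4, pow_mem hlk _⟩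

end Cfsg.Agent.H23.AschKer
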