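import Cfsg.Prelude.Def_Involutions
import Cfsg.Agent.H23.AschKer

/-!
# Strong embedding of `H ∩ K` in `K`: introduction and elimination; the isolated case

* `not_se` : no involution of `L` has all its `L`-conjugates in `H` if `H ∩ L` is strongly embedded in `L`
* `se_of` : criterion for `H ∩ K` to be strongly embedded in `K`
* `iso_of_not_nonIso` : an involution commuting with no other conjugate is isolated
-/

set_option autoImplicit false

open Subgroup

namespace Cfsg.Agent.H23.SEmb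

open Cfsg.Agent.TwoFusion.StronglyEmbeddedBasic Cfsg.Agent.AschCrit.Basic
open Cfsg.Agent.H23.AschKer

variable {G : Type*} [Group G]

theorem mem_map_conj {H : Subgroup G} {g x : G} :
    x ∈ H.map (MulAut.conj g).toMonoidHom ↔ g⁻¹ * x * g ∈ H := by
  constructor
  · rintro ⟨y, hy, rfl⟩
    have : g⁻¹ * (g * y * g⁻¹) * g = y := by group
    simpa [this] using hy
  · intro hx
    exact ⟨g⁻¹ * x * g, hx, by simp [mul_assoc]⟩

/-- elimination -/
theorem not_se [Finite G] {H L : Subgroup G} (hs : Cfsg.IsStronglyEmbedded (H.subgroupOf L)) {v : G}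
    (hv : orderOf v = 2) (hvL : v ∈ L) (hall : ∀ g ∈ L, g⁻¹ * v * g ∈ H) : False := by
  obtain ⟨h1, -, h3⟩ := hs
  obtain ⟨g, hg⟩ : ∃ g : L, g ∉ H.subgroupOf L := by
    by_contra hc
    push Not at hc
    exact h1 (Subgroup.eq_top_iff' _ |>.mpr hc)
  have h4 := h3 g hg
  have hv1 : v ∈ H := by simpa using hall 1 L.one_mem
  have hmem : (⟨v, hvL⟩ : L) ∈ H.subgroupOf L ⊓ (H.subgroupOf L).map (MulAut.conj g).toMonoidHom := by
    refine ⟨Subgroup.mem_subgroupOf.mpr hv1, mem_map_conj.mpr ?_⟩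
    exact Subgroup.mem_subgroupOf.mpr (hall g g.2)
  have h5 : orderOf (⟨v, hvL⟩ : L) ∣
      Nat.card ↥(H.subgroupOf L ⊓ (H.subgroupOf L).map (MulAut.conj g).toMonoidHom) := by
    rw [← Subgroup.orderOf_mk _ hmem]; exact orderOf_dvd_natCard _
  rw [Subgroup.orderOf_mk, hv] at h5
  exact (Nat.not_even_iff_odd.mpr h4) (even_iff_two_dvd.mpr h5)

/-- introduction -/
theorem se_of [Finite G] {H K : Subgroup G} (hK : ¬ K ≤ H) {z : G} (hz : orderOf z = 2)
    (hzK : z ∈ K) (hzH : z ∈ H)
    (h : ∀ v ∈ K, orderOf v = 2 → v ∈ H → ∀ g ∈ K, g⁻¹ * v * g ∈ H → g ∈ H) :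
    Cfsg.IsStronglyEmbedded (H.subgroupOf K) := by
  refine ⟨?_, ?_, ?_⟩
  · intro hc
    apply hK
    intro x hx
    have : (⟨x, hx⟩ : K) ∈ H.subgroupOf K := hc ▸ Subgroup.mem_top _
    exact Subgroup.mem_subgroupOf.mp this
  · have h1 : (⟨z, hzK⟩ : K) ∈ H.subgroupOf K := Subgroup.mem_subgroupOf.mpr hzH
    have h2 : orderOf (⟨z, hzK⟩ : K) ∣ Nat.card (H.subgroupOf K) := by
      rw [← Subgroup.orderOf_mk _ h1]; exact orderOf_dvd_natCard _
    rw [Subgroup.orderOf_mk, hz] at h2
    exact even_iff_two_dvd.mpr h2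
  · intro g hg
    by_contra hodd
    rw [Nat.not_odd_iff_even, even_iff_two_dvd] at hodd
    obtain ⟨⟨v, hv⟩, hv2⟩ := exists_prime_orderOf_dvd_card' 2 hodd
    rw [Subgroup.orderOf_mk] at hv2
    have hv2' : orderOf (v : G) = 2 := by rw [Subgroup.orderOf_coe]; exact hv2
    apply hg
    rw [Subgroup.mem_subgroupOf]
    have h1 := mem_map_conj.mp hv.2
    exact h v v.2 hv2' (Subgroup.mem_subgroupOf.mp hv.1) g g.2 (Subgroup.mem_subgroupOf.mp h1)

/-- an involution commuting with no other conjugate is isolated -/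
theorem iso_of [Finite G] {z : G} (hz : orderOf z = 2)
    (h : ∀ d : G, IsConj z d → Commute z d → d = z) : Cfsg.Agent.Involutions.ZStar.Iso z := by
  refine ⟨mul_self_of_orderOf hz, fun g => ?_⟩
  by_contra hodd
  obtain ⟨w, -, hw2, hwz, -, hwc⟩ := exists_central z (g * z * g⁻¹) hz
    (by rw [orderOf_conj, hz]) (orderOf_pos _) hodd
  have hzw : IsConj z (z * w) := by
    rcases hwc with hc | hc
    · exact hc
    · exact (isConj_iff.mpr ⟨g, rfl⟩ : IsConj z (g * z * g⁻¹)).trans hc
  have hw1 : w ≠ 1 := by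
    intro h1; rw [h1, orderOf_one] at hw2; exact absurd hw2 (by norm_num)
  have := h _ hzw ((Commute.refl z).mul_right hwz.symm)
  exact hw1 (by simpa using this)

/-- in the isolated case every involution of the normal closure of `z` is conjugate to `z` -/
theorem isConj_of_iso [Finite G] {z : G} (hz : orderOf z = 2)
    (h : ∀ d : G, IsConj z d → Commute z d → d = z) {v : G} (hv : orderOf v = 2)
    (hvK : v ∈ normalClosure ({z} : Set G)) : IsConj z v := by
  have hiso := iso_of hz h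
  set O := pPrimeCore 2 G with hO
  have hodd : Odd (Nat.card O) :=
    Nat.coprime_two_right.mp (Cfsg.Agent.Lib.Cores.pPrimeCore_coprime 2)
  have hzz := mul_self_of_orderOf hz
  have hvv := mul_self_of_orderOf hv
  have hzi : z⁻¹ = z := inv_eq_of_mul_eq_one_left hzz
  have hle : normalClosure ({z} : Set G) ≤ zpowers z ⊔ O := by
    rw [normalClosure, closure_le]
    intro x hx
    rw [Group.mem_conjugatesOfSet_iff] at hx
    obtain ⟨z', hz', hzx⟩ := hx
    rw [Set.mem_singleton_iff] at hz'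
    rw [hz'] at hzx
    obtain ⟨g, rfl⟩ := isConj_iff.mp hzx
    have h1 := Cfsg.Agent.S0215.iso_commutator z hiso g
    have e : g * z * g⁻¹ = z * (z * g * z⁻¹ * g⁻¹) := by
      rw [hzi]
      calc g * z * g⁻¹ = (z * z) * g * z * g⁻¹ := by rw [hzz, one_mul]
        _ = _ := by group
    rw [SetLike.mem_coe, e]
    exact mul_mem (mem_sup_left (mem_zpowers z)) (mem_sup_right h1)
  have hmem : v ∈ ((zpowers z ⊔ O : Subgroup G) : Set G) := hle hvK
  rw [Subgroup.mul_normal] at hmem
  obtain ⟨a, ha, w, hw, haw⟩ := hmem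
  have haw' : a * w = v := haw
  have ha' : a = 1 ∨ a = z := by
    obtain ⟨k, rfl⟩ := mem_zpowers_iff.mp (show a ∈ zpowers z from ha)
    rcases Int.even_or_odd' k with ⟨m, hm | hm⟩
    · left; rw [hm, zpow_mul]
      have : z ^ (2 : ℤ) = 1 := by rw [zpow_two, hzz]
      rw [this, one_zpow]
    · right; rw [hm, zpow_add, zpow_mul]
      have : z ^ (2 : ℤ) = 1 := by rw [zpow_two, hzz]
      rw [this, one_zpow, one_mul, zpow_one]
  rcases ha' with rfl | rfl
  · exfalso
    rw [one_mul] at haw'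
    rw [haw'] at hw
    have h1 : orderOf v ∣ Nat.card O := by
      rw [← Subgroup.orderOf_mk v hw]; exact orderOf_dvd_natCard _
    rw [hv] at h1
    exact (Nat.not_even_iff_odd.mpr hodd) (even_iff_two_dvd.mpr h1)
  · have h1 : a * v ∈ O := by
      rw [← haw', ← mul_assoc, hzz, one_mul]; exact hw
    have h2 : Odd (orderOf (a * v)) := by
      have : orderOf (a * v) ∣ Nat.card O := by
        rw [← Subgroup.orderOf_mk _ h1]; exact orderOf_dvd_natCard _
      exact hodd.of_dvd_nat this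
    obtain ⟨c, -, hc⟩ := exists_zpowers_conj hzz hvv h2
    exact isConj_iff.mpr ⟨c, hc⟩

end Cfsg.Agent.H23.SEmb
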