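import Cfsg.Agent.H23.TightMain

/-!
# The involutions of the normal closure of `R` are not bad: passing to the quotient by the kernel core

* `not_bad` : `Setup G Ω z` with `z` not isolated, `R ∋ z` normal in `G_a`, the involutions of `R` fixing only
  `a`: then the involutions of the normal closure of `R` are not bad
-/

set_option autoImplicit false

universe u

open Subgroup

namespace Cfsg.Agent.H23.TightQuot

open Cfsg MulAction
open Cfsg.Agent.TwoFusion.StronglyEmbeddedBasic Cfsg.Agent.AschCrit.Basic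
open Cfsg.Agent.AschCrit.Basic.Setup Cfsg.Agent.AschCrit.Closed Cfsg.Agent.AschCrit.Descent
open Cfsg.Agent.AschCrit.NonIso Cfsg.Agent.AschCrit.BGroup
open Cfsg.Agent.H23.AschKer Cfsg.Agent.H23.CentralKer

variable {G Ω : Type u} [Group G] [MulAction G Ω] {z : G} {a : Ω} {R : Subgroup G}

/-- `R ∩ N₀` lies in the core -/
theorem mem_kcore [Finite G] (h : Setup G Ω z) (Rn : ∀ g : G, g • a = a → ∀ r ∈ R, g * r * g⁻¹ ∈ R)
    (Ri : ∀ r ∈ R, r * r = 1 → r ≠ 1 → ∀ c : Ω, r • c = c → c = a) {r : G} (hr : r ∈ R)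
    (hk : r ∈ ker G Ω) : r ∈ kcore G Ω := by
  have hodd : (Nat.card ((R.subgroupOf (ker G Ω)))).Coprime 2 := by
    rw [Nat.coprime_two_right, ← Nat.not_even_iff_odd, even_iff_two_dvd]
    intro h2
    obtain ⟨⟨⟨x, hxk⟩, hx⟩, hx2⟩ := exists_prime_orderOf_dvd_card' 2 h2
    rw [Subgroup.orderOf_mk, Subgroup.orderOf_mk] at hx2
    have hxR : x ∈ R := hx
    obtain ⟨b, hab⟩ := exists_ne h (a := a)
    have hx1 : x ≠ 1 := by
      rintro rfl
      rw [orderOf_one] at hx2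
      exact absurd hx2 (by norm_num)
    exact hab (Ri x hxR (mul_self_of_orderOf hx2) hx1 b (mem_ker.mp hxk b)).symm
  have hn : (R.subgroupOf (ker G Ω)).Normal := by
    refine ⟨?_⟩
    rintro ⟨x, hx⟩ hxR ⟨g, hg⟩
    rw [Subgroup.mem_subgroupOf] at hxR ⊢
    exact Rn g (mem_ker.mp hg a) x hxR
  have h1 := Cfsg.Agent.Lib.Cores.le_pPrimeCore hn hodd
  have h2 : (⟨r, hk⟩ : ker G Ω) ∈ pPrimeCore 2 (ker G Ω) := h1 (Subgroup.mem_subgroupOf.mpr hr)
  have h3 := Cfsg.Agent.Lib.Cores.map_subtype_pPrimeCore 2 (ker_normal (G := G) (Ω := Ω))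
  have h4 : r ∈ (pPrimeCore 2 (ker G Ω)).map (ker G Ω).subtype := ⟨_, h2, rfl⟩
  rw [h3] at h4
  exact ⟨hk, h4.2⟩

/-- the action of the quotient -/
@[reducible] def quotAct (G Ω : Type u) [Group G] [MulAction G Ω] :
    MulAction (G ⧸ kcore G Ω) Ω :=
  MulAction.compHom Ω (QuotientGroup.lift (kcore G Ω) (MulAction.toPermHom G Ω)
    (fun _ hx => hx.1))

theorem not_bad [Finite G] (hN : ∀ N : ℕ, NoBadBelow.{u} N)
    (hBe : ∀ (X : Type u) [Group X] [Finite X], Cfsg.Agent.StrongEmb.Split.BenderHolds X)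
    (h : Setup G Ω z) (hn : NonIso z) (fa : z • a = a) (Ra : ∀ r ∈ R, r • a = a)
    (Rn : ∀ g : G, g • a = a → ∀ r ∈ R, g * r * g⁻¹ ∈ R) (zR : z ∈ R)
    (Ri : ∀ r ∈ R, r * r = 1 → r ≠ 1 → ∀ c : Ω, r • c = c → c = a) {v : G}
    (hv : v ∈ normalClosure (R : Set G)) : ¬ Bad Ω v := by
  intro hbad
  set W := kcore G Ω with hW
  let _ : MulAction (G ⧸ W) Ω := quotAct G Ω
  let π : G →* G ⧸ W := QuotientGroup.mk' W
  have hπ : Function.Surjective π := QuotientGroup.mk'_surjective W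
  have hπs : ∀ (g : G) (c : Ω), π g • c = g • c := fun g c => rfl
  have hπk : ∀ g : G, π g = 1 ↔ g ∈ W := fun g => QuotientGroup.eq_one_iff g
  have hWodd : Odd (Nat.card W) := odd_kcore
  have hts : TS (G ⧸ W) Ω (π z) a (R.map π) := by
    refine ⟨setup_map h π hπ hπs, ?_, fa, ?_, ?_, ⟨z, zR, rfl⟩, ?_, ?_, ?_⟩
    · obtain ⟨d, hd, hzd, hne⟩ := id hn
      exact ⟨π d, π.map_isConj hd, hzd.map π, fun hh =>
        hne (Cfsg.Agent.AschCrit.InductAct.eq_of_map_eq π h hπs (IsConj.refl z) hd hzd hh.symm).symm⟩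
    · rintro _ ⟨r, hr, rfl⟩
      exact Ra r hr
    · rintro g hg _ ⟨r, hr, rfl⟩
      obtain ⟨γ, rfl⟩ := hπ g
      exact ⟨γ * r * γ⁻¹, Rn γ hg r hr, by rw [map_mul, map_mul, map_inv]⟩
    · rintro _ ⟨r, hr, rfl⟩ hrr hr1 c hc
      have h1 : r * r ∈ W := by rw [← hπk, map_mul]; exact hrr
      have h2 : r ∉ W := fun hh => hr1 ((hπk r).mpr hh)
      obtain ⟨h3, h4, h5⟩ := pow_mem_kcore_iff hWodd h1 h2
      refine Ri _ (R.pow_mem hr _) h3 h4 c ?_
      set y := r ^ orderOf (r * r) with hy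
      have h6 : (y⁻¹ * r) • c = c := mem_ker.mp h5.1 c
      have h7 : r • c = c := hc
      rw [mul_smul, h7] at h6
      exact (inv_smul_eq_iff.mp h6).symm
    · rintro _ ⟨r, hr, rfl⟩ hk
      rw [hπk]
      refine mem_kcore h Rn Ri hr ?_
      rw [mem_ker] at hk ⊢
      exact hk
    · rw [Subgroup.eq_bot_iff_forall]
      intro x hx
      obtain ⟨g, rfl⟩ := hπ x
      rw [hπk]
      set N' := kcore (G ⧸ W) Ω with hN'
      have hN'odd : Odd (Nat.card N') := odd_kcore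
      have hcard : Nat.card (N'.comap π) = Nat.card W * Nat.card N' :=
        QuotientGroup.card_preimage_mk W (N' : Set (G ⧸ W))
      have hn1 : (N'.comap π).Normal := inferInstance
      have h2 := Cfsg.Agent.Lib.Cores.le_pPrimeCore (p := 2) hn1 (by
        rw [Nat.coprime_two_right, hcard]
        exact hWodd.mul hN'odd)
      exact ⟨mem_ker.mpr (mem_ker.mp hx.1), h2 hx⟩
  have hmap : π v ∈ normalClosure ((R.map π : Subgroup (G ⧸ W)) : Set (G ⧸ W)) := by
    have h1 := Subgroup.map_normalClosure (R : Set G) π hπ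
    rw [Subgroup.coe_map, ← h1]
    exact ⟨v, hv, rfl⟩
  apply hts.not_bad hN hBe hmap
  obtain ⟨hv2, c, d, hcd, hc, hd⟩ := hbad
  refine ⟨orderOf_eq_two_of_mul_self ?_ ?_, c, d, hcd, hc, hd⟩
  · rw [← map_mul, mul_self_of_orderOf hv2, map_one]
  · intro h3
    have h4 := (hπk v).mp h3
    have h5 : orderOf v ∣ Nat.card W := by
      rw [← Subgroup.orderOf_mk v h4]; exact orderOf_dvd_natCard _
    rw [hv2] at h5
    exact (Nat.not_even_iff_odd.mpr hWodd) (even_iff_two_dvd.mpr h5)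

end Cfsg.Agent.H23.TightQuot
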