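import Cfsg.Agent.H23.AschKer
import Cfsg.Agent.AschCrit.Induct

/-!
# Aschbacher's criterion without faithfulness: bad involutions of the normal closure of `z` act trivially

* `setup_im` : the set-up of the image in the permutations of the points
* `mem_ker_of_bad` : a bad involution of the normal closure of `z` acts trivially if `z` is not isolated
-/

set_option autoImplicit false

universe u

open Subgroup

namespace Cfsg.Agent.H23.AschBad

open Cfsg MulAction
open Cfsg.Agent.TwoFusion.StronglyEmbeddedBasic Cfsg.Agent.AschCrit.Basic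
open Cfsg.Agent.AschCrit.Basic.Setup Cfsg.Agent.AschCrit.Closed Cfsg.Agent.AschCrit.Descent
open Cfsg.Agent.AschCrit.NonIso Cfsg.Agent.AschCrit.InductFaithful
open Cfsg.Agent.AschCrit.InductAct Cfsg.Agent.AschCrit.BGroup Cfsg.Agent.AschCrit.Induct
open Cfsg.Agent.H23.AschKer

variable {K Ψ : Type u} [Group K] [Finite K] [MulAction K Ψ] {z : K}

omit [Finite K] in
theorem pr_smul (g : K) (a : Ψ) : pr K Ψ g • a = g • a := rfl

omit [Finite K] in
theorem pr_surjective : Function.Surjective (pr K Ψ) := (toPermHom K Ψ).rangeRestrict_surjective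

omit [Finite K] in
theorem pr_eq_one_iff {g : K} : pr K Ψ g = 1 ↔ g ∈ ker K Ψ := by
  rw [mem_ker]
  constructor
  · intro h a
    rw [← pr_smul, h, one_smul]
  · intro h
    apply Subtype.ext
    ext a
    exact h a

instance : Finite (Im K Ψ) := Finite.of_surjective _ (pr_surjective (K := K) (Ψ := Ψ))

omit [Finite K] in
theorem faithful_im : ∀ g : Im K Ψ, (∀ a : Ψ, g • a = a) → g = 1 := by
  intro g hg
  apply Subtype.ext
  ext a
  exact hg a

theorem setup_im (h : Setup K Ψ z) : Setup (Im K Ψ) Ψ (pr K Ψ z) :=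
  setup_map h (pr K Ψ) pr_surjective pr_smul

theorem nonIso_im (h : Setup K Ψ z) (hn : NonIso z) : NonIso (pr K Ψ z) := by
  obtain ⟨d, hd, hzd, hne⟩ := id hn
  exact ⟨pr K Ψ d, (pr K Ψ).map_isConj hd, hzd.map (pr K Ψ), fun hh =>
    hne (eq_of_map_eq (pr K Ψ) h pr_smul (IsConj.refl z) hd hzd hh.symm).symm⟩

/-- a bad involution of the normal closure of `z` acts trivially -/
theorem mem_ker_of_bad (hN : ∀ N : ℕ, NoBadBelow.{u} N) (h : Setup K Ψ z) (hn : NonIso z) {v : K}
    (hv : v ∈ normalClosure ({z} : Set K)) (hb : Bad Ψ v) : v ∈ ker K Ψ := by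
  by_contra hk
  have h1 := noBad_of_below (hN (Nat.card (Im K Ψ) + 1)) (setup_im h) faithful_im (nonIso_im h hn)
    (Nat.lt_succ_self _) (pr K Ψ v) (by
      have h2 : (normalClosure ({z} : Set K)).map (pr K Ψ) =
          normalClosure ((pr K Ψ) '' ({z} : Set K)) :=
        Subgroup.map_normalClosure _ _ pr_surjective
      rw [Set.image_singleton] at h2
      show pr K Ψ v ∈ normalClosure ({pr K Ψ z} : Set (Im K Ψ))
      rw [← h2]
      exact ⟨v, hv, rfl⟩)
  apply h1
  obtain ⟨hv2, a, b, hab, ha, hb'⟩ := hb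
  refine ⟨orderOf_eq_two_of_mul_self ?_ ?_, a, b, hab, ha, hb'⟩
  · rw [← map_mul, mul_self_of_orderOf hv2, map_one]
  · intro h3
    exact hk (pr_eq_one_iff.mp h3)

end Cfsg.Agent.H23.AschBad
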