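import Cfsg.Agent.H23.RankOneBd

/-!
# Bender groups as normal subgroups of permutation groups

* `Bdr a b L Q E D k i` : the normal subgroup `L` of `G` is a simple rank-one group on `Ω`, facts inside `G`
* `Bdr.eq_or_eq` : a `D`-invariant subgroup between `E` and `Q` is `E` or `Q`
-/

set_option autoImplicit false

open Cfsg

namespace Cfsg.Agent.H23.BD

open Subgroup Cfsg.Agent.H23.RankOneBd

/-- The facts, inside a group `G` acting on `Ω` with normal subgroup `L`. -/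
structure Bdr {G Ω : Type*} [Group G] [MulAction G Ω] (a b : Ω) (L Q E D : Subgroup G) (k i : ℕ) :
    Prop where
  normal : L.Normal
  simple : IsSimpleGroup L
  ne : a ≠ b
  QL : Q ≤ L
  fixQ : ∀ s ∈ Q, s • a = a
  regQ : ∀ c : Ω, c ≠ a → ∃ s ∈ Q, s • b = c
  freeQ : ∀ s ∈ Q, ∀ c : Ω, c ≠ a → s • c = c → s = 1
  memD : ∀ g : G, g ∈ D ↔ g ∈ L ∧ g • a = a ∧ g • b = b
  oddD : Odd (Nat.card D)
  commD : ∀ d ∈ D, ∀ e ∈ D, d * e = e * d
  pQ : IsPGroup 2 Q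
  memQ : ∀ g ∈ L, g • a = a → IsPGroup 2 (zpowers g) → g ∈ Q
  normQL : ∀ g ∈ L, g • a = a → ∀ s ∈ Q, g * s * g⁻¹ ∈ Q
  memE : ∀ g : G, g ∈ E ↔ g ∈ Q ∧ g * g = 1
  cenE : ∀ e ∈ E, ∀ s ∈ Q, e * s = s * e
  sqE : ∀ s ∈ Q, s * s ∈ E
  transE : ∀ e ∈ E, e ≠ 1 → ∀ f ∈ E, f ≠ 1 → ∃ d ∈ D, d * e * d⁻¹ = f
  cardE : Nat.card E = 2 ^ k
  two_le : 2 ≤ k
  cardQ : Nat.card Q = (2 ^ k) ^ i
  cardL : Nat.card L = Nat.card Q * Nat.card D * (Nat.card Q + 1)
  srV : ∀ d ∈ D, d ≠ 1 → ∀ s ∈ Q, s⁻¹ * (d * s * d⁻¹) ∈ E → s ∈ E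
  fpf : ∃ d ∈ D, ∀ s ∈ Q, d * s = s * d → s = 1
  typ : i = 1 ∨ (i = 2 ∧ Odd k ∧ Nat.card D = 2 ^ k - 1) ∨
    (i = 3 ∧ Nat.gcd 3 (2 ^ k + 1) * Nat.card D = (2 ^ k) ^ 2 - 1 ∧
      ∃ (F : Type) (_ : Field F) (_ : Fintype F), Fintype.card F = (2 ^ k) ^ 2 ∧
        Nonempty (L ≃* Cfsg.PSU 3 F (2 ^ k)))

theorem mem_map_subtype {G : Type*} [Group G] {L : Subgroup G} {Q : Subgroup L} {g : G} :
    g ∈ Q.map L.subtype ↔ ∃ h : g ∈ L, (⟨g, h⟩ : L) ∈ Q := by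
  constructor
  · rintro ⟨⟨x, hx⟩, hxQ, rfl⟩
    exact ⟨hx, hxQ⟩
  · rintro ⟨h, hQ⟩
    exact ⟨⟨g, h⟩, hQ, rfl⟩

theorem isPGroup_zpowers_coe {G : Type*} [Group G] {L : Subgroup G} {g : L}
    (h : IsPGroup 2 (zpowers (g : G))) : IsPGroup 2 (zpowers g) := by
  rintro ⟨x, hx⟩
  obtain ⟨n, rfl⟩ := mem_zpowers_iff.mp hx
  obtain ⟨m, hm⟩ := h ⟨(g : G) ^ n, zpow_mem (mem_zpowers _) n⟩
  refine ⟨m, Subtype.ext (Subtype.ext ?_)⟩
  have := congrArg Subtype.val hm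
  simpa using this

/-- from the type of `L` to `G` -/
theorem bdr_of {G Ω : Type*} [Group G] [Finite G] [MulAction G Ω] {a b : Ω} {L : Subgroup G}
    (hn : L.Normal) (hs : IsSimpleGroup L) {Q E D : Subgroup L} {k i : ℕ}
    (h : Bd (G := L) a b Q E D k i) :
    Bdr a b L (Q.map L.subtype) (E.map L.subtype) (D.map L.subtype) k i where
  normal := hn
  simple := hs
  ne := h.ne
  QL := Subgroup.map_subtype_le _
  fixQ := by
    rintro _ ⟨s, hs, rfl⟩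
    exact h.fixQ s hs
  regQ := by
    intro c hc
    obtain ⟨s, hs, hsc⟩ := h.regQ c hc
    exact ⟨s, ⟨s, hs, rfl⟩, hsc⟩
  freeQ := by
    rintro _ ⟨s, hs, rfl⟩ c hc hsc
    exact congrArg Subtype.val (h.freeQ s hs c hc hsc)
  memD := by
    intro g
    rw [mem_map_subtype]
    constructor
    · rintro ⟨h1, h2⟩
      exact ⟨h1, (h.memD _).mp h2⟩
    · rintro ⟨h1, h2⟩
      exact ⟨h1, (h.memD _).mpr h2⟩
  oddD := by
    rw [Subgroup.card_map_of_injective L.subtype_injective]; exact h.oddD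
  commD := by
    rintro _ ⟨d, hd, rfl⟩ _ ⟨e, he, rfl⟩
    exact congrArg Subtype.val (h.commD d hd e he)
  pQ := h.pQ.map _
  memQ := by
    intro g hg hga hp
    exact mem_map_subtype.mpr ⟨hg, h.memQ ⟨g, hg⟩ hga (isPGroup_zpowers_coe hp)⟩
  normQL := by
    rintro g hg hga _ ⟨s, hs, rfl⟩
    exact mem_map_subtype.mpr ⟨_, h.normQ ⟨g, hg⟩ hga s hs⟩
  memE := by
    intro g
    rw [mem_map_subtype, mem_map_subtype]
    constructor
    · rintro ⟨h1, h2⟩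
      have h3 := (h.memE _).mp h2
      exact ⟨⟨h1, h3.1⟩, congrArg Subtype.val h3.2⟩
    · rintro ⟨⟨h1, h2⟩, h3⟩
      exact ⟨h1, (h.memE _).mpr ⟨h2, Subtype.ext h3⟩⟩
  cenE := by
    rintro _ ⟨e, he, rfl⟩ _ ⟨s, hs, rfl⟩
    exact congrArg Subtype.val (h.cenE e he s hs)
  sqE := by
    rintro _ ⟨s, hs, rfl⟩
    exact ⟨s * s, h.sqE s hs, rfl⟩
  transE := by
    rintro _ ⟨e, he, rfl⟩ he1 _ ⟨f, hf, rfl⟩ hf1
    obtain ⟨d, hd, hde⟩ := h.transE e he (fun hh => he1 (by rw [hh]; rfl)) f hf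
      (fun hh => hf1 (by rw [hh]; rfl))
    exact ⟨d, ⟨d, hd, rfl⟩, congrArg Subtype.val hde⟩
  cardE := by
    rw [Subgroup.card_map_of_injective L.subtype_injective]; exact h.cardE
  two_le := h.two_le
  cardQ := by
    rw [Subgroup.card_map_of_injective L.subtype_injective]; exact h.cardQ
  cardL := by
    rw [Subgroup.card_map_of_injective L.subtype_injective,
      Subgroup.card_map_of_injective L.subtype_injective]; exact h.cardG
  srV := by
    rintro _ ⟨d, hd, rfl⟩ hd1 _ ⟨s, hs, rfl⟩ hse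
    obtain ⟨h1, h2⟩ := mem_map_subtype.mp hse
    exact ⟨s, h.srV d hd (fun hh => hd1 (by rw [hh]; rfl)) s hs h2, rfl⟩
  fpf := by
    obtain ⟨d, hd, hds⟩ := h.fpf
    refine ⟨d, ⟨d, hd, rfl⟩, ?_⟩
    rintro _ ⟨s, hs, rfl⟩ hh
    rw [hds s hs (Subtype.ext hh)]; rfl
  typ := by
    rw [Subgroup.card_map_of_injective L.subtype_injective]; exact h.typ

namespace Bdr

variable {G Ω : Type*} [Group G] [MulAction G Ω] {a b : Ω} {L Q E D : Subgroup G} {k i : ℕ}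

theorem EQ (h : Bdr a b L Q E D k i) : E ≤ Q := fun g hg => ((h.memE g).mp hg).1

theorem DL (h : Bdr a b L Q E D k i) : D ≤ L := fun g hg => ((h.memD g).mp hg).1

theorem comE (h : Bdr a b L Q E D k i) {x y : G} (hx : x ∈ Q) (hy : y ∈ Q) :
    x * y * x⁻¹ * y⁻¹ ∈ E := by
  rw [comm_eq_sq]
  refine E.mul_mem (E.mul_mem (h.sqE _ (Q.mul_mem hx hy)) (h.sqE _ ?_)) (h.sqE _ (Q.inv_mem hy))
  exact Q.mul_mem (Q.mul_mem (Q.inv_mem hy) (Q.inv_mem hx)) hy

/-- `G_a` normalises `Q` -/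
theorem normQ (h : Bdr a b L Q E D k i) {g : G} (hg : g • a = a) {s : G} (hs : s ∈ Q) :
    g * s * g⁻¹ ∈ Q := by
  have hn := h.normal
  refine h.memQ _ (hn.conj_mem s (h.QL hs) g) ?_ ?_
  · have hga : g⁻¹ • a = a := by rw [inv_smul_eq_iff, hg]
    rw [mul_smul, mul_smul, hga, h.fixQ s hs, hg]
  · have h1 : IsPGroup 2 (zpowers s) := h.pQ.to_le (zpowers_le.mpr hs)
    have h2 : (zpowers s).map (MulAut.conj g).toMonoidHom = zpowers (g * s * g⁻¹) := by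
      rw [MonoidHom.map_zpowers]; rfl
    rw [← h2]
    exact h1.map _

theorem normE (h : Bdr a b L Q E D k i) {g : G} (hg : g • a = a) {s : G} (hs : s ∈ E) :
    g * s * g⁻¹ ∈ E := by
  obtain ⟨h1, h2⟩ := (h.memE s).mp hs
  refine (h.memE _).mpr ⟨h.normQ hg h1, ?_⟩
  calc g * s * g⁻¹ * (g * s * g⁻¹) = g * (s * s) * g⁻¹ := by group
    _ = 1 := by rw [h2]; group

theorem fixD (h : Bdr a b L Q E D k i) {d : G} (hd : d ∈ D) : d • a = a := ((h.memD d).mp hd).2.1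

theorem fixDb (h : Bdr a b L Q E D k i) {d : G} (hd : d ∈ D) : d • b = b := ((h.memD d).mp hd).2.2

theorem relIndex_mul {H K : Subgroup G} (hHK : H ≤ K) : Nat.card H * H.relIndex K = Nat.card K := by
  have := Subgroup.relIndex_mul_relIndex ⊥ H K bot_le hHK
  simpa using this

theorem four_le (h : Bdr a b L Q E D k i) : 4 ≤ 2 ^ k := by
  calc 4 = 2 ^ 2 := rfl
    _ ≤ 2 ^ k := Nat.pow_le_pow_right (by norm_num) h.two_le

theorem arith_three {q d m : ℕ} (hq4 : 4 ≤ q) (hq : ∃ k, q = 2 ^ k)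
    (hg : Nat.gcd 3 (q + 1) * d = q ^ 2 - 1) (hd : d ∣ m - 1) (hm : m ∣ q ^ 2) (hm1 : m ≠ 1) :
    m = q ^ 2 := by
  have hq2 : 16 ≤ q ^ 2 := by nlinarith
  have hmpos : 0 < m := Nat.pos_of_dvd_of_pos hm (by omega)
  have hmle : m ≤ q ^ 2 := Nat.le_of_dvd (by omega) hm
  obtain ⟨c, hc⟩ := hd
  have hg3 : Nat.gcd 3 (q + 1) = 1 ∨ Nat.gcd 3 (q + 1) = 3 := by
    have := Nat.gcd_dvd_left 3 (q + 1)
    exact (Nat.dvd_prime Nat.prime_three).mp this
  obtain ⟨k, hk⟩ := hq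
  have hk2 : q ^ 2 = 2 ^ (2 * k) := by rw [hk, ← pow_mul, mul_comm]
  obtain ⟨j, hj, hmj⟩ := (Nat.dvd_prime_pow Nat.prime_two).mp (hk2 ▸ hm)
  have hj0 : j ≠ 0 := by
    intro h0
    rw [h0, pow_zero] at hmj
    exact hm1 hmj
  have heven : 2 ∣ m := by rw [hmj]; exact dvd_pow_self 2 hj0
  have hq2e : 4 ∣ q ^ 2 := by
    rw [hk2]
    have : 2 ≤ 2 * k := by
      rcases Nat.eq_zero_or_pos k with h0 | h0
      · rw [h0, pow_zero] at hk; omega
      · omega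
    exact (pow_dvd_pow 2 this)
  rcases hg3 with h1 | h1
  · rw [h1, one_mul] at hg
    have hcpos : c ≠ 0 := by
      rintro rfl
      omega
    have : c = 1 ∨ 2 ≤ c := by omega
    rcases this with rfl | h2
    · omega
    · have : d * 2 ≤ d * c := Nat.mul_le_mul_left d h2
      omega
  · rw [h1] at hg
    have hcpos : c ≠ 0 := by
      rintro rfl
      omega
    have : c = 1 ∨ c = 2 ∨ c = 3 ∨ 4 ≤ c := by omega
    rcases this with rfl | rfl | rfl | h2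
    · -- `3 m = q² + 2`
      exfalso
      have h3 : 3 * m = q ^ 2 + 2 := by omega
      -- `m` is 2 mod 4
      have hj1 : j = 1 := by
        by_contra hj1
        have h4 : 4 ∣ m := by
          rw [hmj]
          exact pow_dvd_pow 2 (show 2 ≤ j by omega)
        omega
      rw [hj1, pow_one] at hmj
      omega
    · exfalso
      omega
    · omega
    · have : d * 4 ≤ d * c := Nat.mul_le_mul_left d h2
      omega

/-- a `D`-invariant subgroup between `E` and `Q` is `E` or `Q` -/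
theorem eq_or_eq [Finite G] (h : Bdr a b L Q E D k i) {S : Subgroup G} (hES : E ≤ S) (hSQ : S ≤ Q)
    (hD : ∀ d ∈ D, ∀ s ∈ S, d * s * d⁻¹ ∈ S) : S = E ∨ S = Q := by
  have h4 := h.four_le
  have hcE := h.cardE
  have hcQ := h.cardQ
  rcases h.typ with h1 | ⟨h1, -, h2⟩ | ⟨h1, h2, -⟩
  · left
    rw [h1, pow_one, ← hcE] at hcQ
    have h5 := Subgroup.eq_of_le_of_card_ge h.EQ hcQ.le
    exact le_antisymm (hSQ.trans h5.ge) hES
  · -- type 2
    have hdvd : Nat.card D ∣ E.relIndex S - 1 :=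
      Cfsg.Agent.H23.FreeAct.card_dvd_relIndex_sub hD (fun d hd e he => h.normE (h.fixD hd) he)
        (fun d hd hd1 s hs hse => h.srV d hd hd1 s (hSQ hs) hse)
    have hm1 := relIndex_mul hES
    by_cases hm : E.relIndex S = 1
    · left
      exact le_antisymm (Subgroup.relIndex_eq_one.mp hm) hES
    right
    apply Subgroup.eq_of_le_of_card_ge hSQ
    have hpos : 0 < E.relIndex S := by
      rcases Nat.eq_zero_or_pos (E.relIndex S) with h0 | h0
      · rw [h0, mul_zero] at hm1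
        have := Nat.card_pos (α := S)
        omega
      · exact h0
    have h5 : 2 ^ k - 1 ≤ E.relIndex S - 1 := by
      rw [← h2]; exact Nat.le_of_dvd (by omega) hdvd
    have h6 : 2 ^ k ≤ E.relIndex S := by omega
    rw [hcQ, h1, ← hm1, hcE, pow_two]
    exact Nat.mul_le_mul_left _ h6
  · -- type 3
    have hdvd : Nat.card D ∣ E.relIndex S - 1 :=
      Cfsg.Agent.H23.FreeAct.card_dvd_relIndex_sub hD (fun d hd e he => h.normE (h.fixD hd) he)
        (fun d hd hd1 s hs hse => h.srV d hd hd1 s (hSQ hs) hse)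
    have hm1 := relIndex_mul hES
    have hm3 := relIndex_mul hSQ
    by_cases hm : E.relIndex S = 1
    · left
      exact le_antisymm (Subgroup.relIndex_eq_one.mp hm) hES
    right
    apply Subgroup.eq_of_le_of_card_ge hSQ
    have h5 : E.relIndex S ∣ (2 ^ k) ^ 2 := by
      have h6 : Nat.card S ∣ Nat.card Q := ⟨_, hm3.symm⟩
      rw [hcQ, h1, ← hm1, hcE, pow_succ' (2 ^ k) 2] at h6
      exact Nat.dvd_of_mul_dvd_mul_left (by omega) h6
    have h6 := arith_three h4 ⟨k, rfl⟩ h2 hdvd h5 hm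
    rw [hcQ, h1, ← hm1, hcE, h6, ← pow_succ']

end Bdr

end Cfsg.Agent.H23.BD
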