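import Cfsg.Agent.H23.Bdr
import Cfsg.Agent.H23.AschBad

/-!
# Aschbacher's set-up: the normal closure of `z` in the permutation group is a Bender group

* `exists_bdr` : the facts `Bdr` for the image of the normal closure of a non-isolated `z`
-/

set_option autoImplicit false

universe u

open Subgroup

namespace Cfsg.Agent.H23.BdrEx

open Cfsg MulAction
open Cfsg.Agent.TwoFusion.StronglyEmbeddedBasic Cfsg.Agent.AschCrit.Basic
open Cfsg.Agent.AschCrit.Basic.Setup Cfsg.Agent.AschCrit.Closed Cfsg.Agent.AschCrit.Descent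
open Cfsg.Agent.AschCrit.NonIso Cfsg.Agent.AschCrit.InductFaithful
open Cfsg.Agent.AschCrit.InductAct Cfsg.Agent.AschCrit.BGroup Cfsg.Agent.AschCrit.Induct
open Cfsg.Agent.StrongEmb.Split
open Cfsg.Agent.H23.AschKer Cfsg.Agent.H23.AschBad Cfsg.Agent.H23.BD

variable {K Ψ : Type u} [Group K] [Finite K] [MulAction K Ψ] {z : K}

theorem exists_bdr (hN : ∀ N : ℕ, NoBadBelow.{u} N)
    (hB : ∀ (X : Type u) [Group X] [Finite X], BenderHolds X) (h : Setup K Ψ z)
    (hn : NonIso z) (a : Ψ) : ∃ (b : Ψ) (Q E D : Subgroup (Im K Ψ)) (k i : ℕ),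
      Bdr a b (L (pr K Ψ z)) Q E D k i := by
  obtain ⟨k, i, hact, hall⟩ := bact (hN (Nat.card K + 1)) hB h hn (Nat.lt_succ_self _)
  obtain ⟨t, Qa, hS, hp, hcard, hq⟩ := hall a
  have hsim : IsSimpleGroup (L (pr K Ψ z)) :=
    isSimpleGroup_closure (setup_im h) faithful_im (nonIso_im h hn)
  have hfaith : FaithfulSMul (L (pr K Ψ z)) Ψ := by
    refine ⟨fun {g g'} hg => ?_⟩
    apply Subtype.ext
    have h1 : ((g'⁻¹ * g : L (pr K Ψ z)) : Im K Ψ) = 1 := by
      apply faithful_im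
      intro c
      show (g'⁻¹ * g : L (pr K Ψ z)) • c = c
      rw [mul_smul, hg c, inv_smul_smul]
    have h2 : g'⁻¹ * g = 1 := Subtype.ext h1
    rw [inv_mul_eq_one] at h2
    rw [h2]
  have h2 : ∃ x y : L (pr K Ψ z), x ≠ 1 ∧ y ≠ 1 ∧ x ≠ y ∧ x * x = 1 ∧ y * y = 1 ∧
      x * y = y * x := by
    have hSI := setup_im h
    obtain ⟨d, hd, hzd, hne⟩ := nonIso_im h hn
    have hne1 : ∀ e : Im K Ψ, IsConj (pr K Ψ z) e → e ≠ 1 := by
      intro e he h1
      have := hSI.orderOf_eq he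
      rw [h1, orderOf_one] at this
      exact absurd this (by norm_num)
    refine ⟨⟨pr K Ψ z, mem_L (IsConj.refl _)⟩, ⟨d, mem_L hd⟩, ?_, ?_, ?_, ?_, ?_, ?_⟩
    · exact fun hh => hne1 _ (IsConj.refl _) (congrArg Subtype.val hh)
    · exact fun hh => hne1 _ hd (congrArg Subtype.val hh)
    · exact fun hh => hne (congrArg Subtype.val hh).symm
    · exact Subtype.ext (hSI.mul_self (IsConj.refl _))
    · exact Subtype.ext (hSI.mul_self hd)
    · exact Subtype.ext hzd.eq
  exact ⟨_, _, _, _, k, i, bdr_of normalClosure_normal hsim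
    (Cfsg.Agent.H23.RankOneBd.bd hS h2 hact.two_le hact.one_le hact.le_three hq hcard hp)⟩

end Cfsg.Agent.H23.BdrEx
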