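import Cfsg.Agent.Transfer.Extraspecial

/-!
# Groups of class two: a quotient with derived group of order 2

`exists_quotient` : `P` of class two with `[P, P]` and all squares in the central subgroup `M`, `[P, P] ≰ Ep ≤ M`: there is
`Ep ≤ N ≤ M` with `[P, P] ≰ N` such that the subgroup of the elements central modulo `N` has index `2 ^ (2 n)`.
-/

set_option autoImplicit false

open Subgroup

namespace Cfsg.Agent.H23.Parity

open scoped commutatorElement

theorem exists_quotient {P : Type*} [Group P] [Finite P] {Ep M : Subgroup P} (hEM : Ep ≤ M)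
    (hMc : M ≤ center P) (hPM : commutator P ≤ M) (hsq : ∀ x : P, x * x ∈ M)
    (hne : ¬ commutator P ≤ Ep) :
    ∃ N : Subgroup P, Ep ≤ N ∧ N ≤ M ∧ ∃ S : Subgroup P,
      (∀ x, x ∈ S ↔ ∀ y, x * y * x⁻¹ * y⁻¹ ∈ N) ∧ S ≠ ⊤ ∧ ∃ n : ℕ, S.index = 2 ^ (2 * n) := by
  classical
  have hfin : Finite (Subgroup P) := inferInstance
  obtain ⟨N, ⟨hEN, hNM, hPN⟩, hmax⟩ :=
    Set.Finite.exists_maximalFor id {N : Subgroup P | Ep ≤ N ∧ N ≤ M ∧ ¬ commutator P ≤ N}
      (Set.toFinite _) ⟨Ep, le_rfl, hEM, hne⟩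
  have hNn : N.Normal := by
    refine ⟨fun n hn g => ?_⟩
    have := mem_center_iff.mp (hMc (hNM hn)) g
    rw [this, mul_inv_cancel_right]; exact hn
  refine ⟨N, hEN, hNM, (center (P ⧸ N)).comap (QuotientGroup.mk' N), ?_, ?_, ?_⟩
  · intro x
    rw [mem_comap, mem_center_iff]
    constructor
    · intro h y
      rw [← QuotientGroup.eq_one_iff]
      have h1 := h (QuotientGroup.mk' N y)
      rw [QuotientGroup.mk'_apply, QuotientGroup.mk'_apply] at h1
      rw [QuotientGroup.mk_mul, QuotientGroup.mk_mul, QuotientGroup.mk_mul, ← h1]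
      simp
    · intro h g
      obtain ⟨y, rfl⟩ := QuotientGroup.mk'_surjective N g
      have h1 := h y
      rw [← QuotientGroup.eq_one_iff] at h1
      rw [QuotientGroup.mk_mul, QuotientGroup.mk_mul, QuotientGroup.mk_mul,
        QuotientGroup.mk_inv, QuotientGroup.mk_inv, mul_inv_eq_one, mul_inv_eq_iff_eq_mul] at h1
      exact h1.symm
  · intro htop
    apply hPN
    rw [commutator_def, Subgroup.commutator_le]
    intro x _ y _
    have hx : x ∈ (center (P ⧸ N)).comap (QuotientGroup.mk' N) := htop ▸ mem_top x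
    rw [mem_comap, mem_center_iff] at hx
    have h1 := hx (QuotientGroup.mk' N y)
    rw [QuotientGroup.mk'_apply, QuotientGroup.mk'_apply] at h1
    rw [commutatorElement_def, ← QuotientGroup.eq_one_iff, QuotientGroup.mk_mul,
      QuotientGroup.mk_mul, QuotientGroup.mk_mul, ← h1]
    simp
  · rw [index_comap_of_surjective _ (QuotientGroup.mk'_surjective N)]
    -- a commutator outside `N`
    obtain ⟨x, y, hxy⟩ : ∃ x y : P, ⁅x, y⁆ ∉ N := by
      by_contra hcon
      push Not at hcon
      apply hPN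
      rw [commutator_def, Subgroup.commutator_le]
      exact fun x _ y _ => hcon x y
    have hcM : ⁅x, y⁆ ∈ M := hPM (Cfsg.Agent.Transfer.Extraspecial.comm_mem x y)
    have hcc := mem_center_iff.mp (hMc hcM)
    have hc2 : ⁅x, y⁆ * ⁅x, y⁆ = 1 := by
      have h1 := mem_center_iff.mp (hMc (hsq x)) y
      have h2 := hcc x
      -- `x y x⁻¹ = c y`
      have h3 : x * y * x⁻¹ = ⁅x, y⁆ * y := by rw [commutatorElement_def]; group
      have h4 : x * x * y * (x * x)⁻¹ = ⁅x, y⁆ * ⁅x, y⁆ * y := by
        calc x * x * y * (x * x)⁻¹ = x * (x * y * x⁻¹) * x⁻¹ := by group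
          _ = (x * ⁅x, y⁆) * y * x⁻¹ := by rw [h3]; group
          _ = ⁅x, y⁆ * (x * y * x⁻¹) := by rw [h2]; group
          _ = ⁅x, y⁆ * ⁅x, y⁆ * y := by rw [h3]; group
      have h5 : x * x * y * (x * x)⁻¹ = y := by rw [← h1]; group
      rw [h5] at h4
      exact (mul_eq_right.mp h4.symm)
    have hle : commutator P ≤ zpowers ⁅x, y⁆ ⊔ N := by
      by_contra hcon
      have h1 : zpowers ⁅x, y⁆ ⊔ N ∈ {N : Subgroup P | Ep ≤ N ∧ N ≤ M ∧ ¬ commutator P ≤ N} :=
        ⟨hEN.trans le_sup_right, sup_le (zpowers_le.mpr hcM) hNM, hcon⟩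
      have h2 := hmax h1 (show id N ≤ id (zpowers ⁅x, y⁆ ⊔ N) from le_sup_right)
      exact hxy (h2 (mem_sup_left (mem_zpowers _)))
    have hcard : Nat.card (commutator (P ⧸ N)) ∣ 2 := by
      have h1 : commutator (P ⧸ N) ≤ zpowers (QuotientGroup.mk' N ⁅x, y⁆) := by
        have h2 : commutator (P ⧸ N) = (commutator P).map (QuotientGroup.mk' N) := by
          rw [commutator_def, commutator_def, map_commutator,
            Subgroup.map_top_of_surjective _ (QuotientGroup.mk'_surjective N)]
        rw [h2]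
        refine (Subgroup.map_mono hle).trans ?_
        rw [Subgroup.map_sup, MonoidHom.map_zpowers]
        refine sup_le le_rfl ?_
        rintro _ ⟨n, hn, rfl⟩
        have h5 : QuotientGroup.mk' N n = 1 := (QuotientGroup.eq_one_iff n).mpr hn
        rw [h5]
        exact one_mem _
      refine (Subgroup.card_dvd_of_le h1).trans ?_
      rw [Nat.card_zpowers]
      apply orderOf_dvd_of_pow_eq_one
      rw [pow_two, ← map_mul, hc2, map_one]
    have : Fact (Nat.Prime 2) := ⟨Nat.prime_two⟩
    refine Cfsg.Agent.Transfer.Extraspecial.exists_index_center_eq (p := 2) _ rfl ?_ hcard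
    intro a b
    obtain ⟨a, rfl⟩ := QuotientGroup.mk'_surjective N a
    obtain ⟨b, rfl⟩ := QuotientGroup.mk'_surjective N b
    rw [← map_commutatorElement, mem_center_iff]
    intro g
    obtain ⟨g, rfl⟩ := QuotientGroup.mk'_surjective N g
    have := mem_center_iff.mp (hMc (hPM (Cfsg.Agent.Transfer.Extraspecial.comm_mem a b))) g
    rw [← map_mul, this, map_mul]

end Cfsg.Agent.H23.Parity
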