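import Cfsg.Agent.H23.BdrEx
import Cfsg.Agent.H23.Parity
import Cfsg.Agent.KFacts.Mult.Unitary

/-!
# The kernel of the action and the derived group of the normal closure of `z`

`TS G Ω z a R` : the set-up with a normal subgroup `R ∋ z` of `G_a` meeting the kernel trivially, the kernel having
no core.  With `X` the normal closure of `z`:

* `pow_index_mem` : transfer
* `TS.eq_one_of_commutator` : `[X, X]` meets the kernel trivially
-/

set_option autoImplicit false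

universe u

open Subgroup

namespace Cfsg.Agent.H23.CentralKer

open Cfsg MulAction
open Cfsg.Agent.TwoFusion.StronglyEmbeddedBasic Cfsg.Agent.AschCrit.Basic
open Cfsg.Agent.AschCrit.Basic.Setup Cfsg.Agent.AschCrit.Closed Cfsg.Agent.AschCrit.Descent
open Cfsg.Agent.AschCrit.NonIso Cfsg.Agent.AschCrit.InductFaithful
open Cfsg.Agent.AschCrit.InductAct Cfsg.Agent.AschCrit.BGroup Cfsg.Agent.AschCrit.Induct
open Cfsg.Agent.H23.AschKer Cfsg.Agent.H23.AschBad Cfsg.Agent.H23.BD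
open scoped commutatorElement

/-- a central element of the derived group: its power by the index of `P` lies in `Eh ≥ [P, P]` -/
theorem pow_index_mem {X : Type*} [Group X] [Finite X] {P Eh : Subgroup X}
    (hcom : ∀ x ∈ P, ∀ y ∈ P, x * y * x⁻¹ * y⁻¹ ∈ Eh) {c : X} (hcc : ∀ x, x * c = c * x)
    (hc : c ∈ commutator X) : c ^ P.index ∈ Eh := by
  have key : ∀ (k : ℕ) (g₀ : X), g₀⁻¹ * c ^ k * g₀ ∈ P → g₀⁻¹ * c ^ k * g₀ = c ^ k := by
    intro k g₀ _
    have h2 : Commute c g₀ := (hcc g₀).symm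
    rw [mul_assoc, (h2.pow_left k).eq]; group
  have h3 := MonoidHom.transfer_eq_pow (Abelianization.of (G := P)) c key
  have h4 : MonoidHom.transfer (Abelianization.of (G := P)) c = 1 :=
    (Abelianization.commutator_subset_ker _) hc
  rw [h4] at h3
  have h5 : (⟨c ^ P.index, MonoidHom.transfer_eq_pow_aux c key⟩ : P) ∈ commutator P := by
    rw [← Abelianization.ker_of, MonoidHom.mem_ker]; exact h3.symm
  have h6 : commutator P ≤ Eh.subgroupOf P := by
    rw [commutator_def, Subgroup.commutator_le]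
    intro x _ y _
    rw [Subgroup.mem_subgroupOf, commutatorElement_def]
    exact hcom x x.2 y y.2
  exact Subgroup.mem_subgroupOf.mp (h6 h5)

/-- the set-up -/
structure TS (G Ω : Type u) [Group G] [MulAction G Ω] (z : G) (a : Ω) (R : Subgroup G) : Prop where
  setup : Setup G Ω z
  nonIso : NonIso z
  fa : z • a = a
  Ra : ∀ r ∈ R, r • a = a
  Rn : ∀ g : G, g • a = a → ∀ r ∈ R, g * r * g⁻¹ ∈ R
  zR : z ∈ R
  Ri : ∀ r ∈ R, r * r = 1 → r ≠ 1 → ∀ c : Ω, r • c = c → c = a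
  Rk : ∀ r ∈ R, r ∈ ker G Ω → r = 1
  core : kcore G Ω = ⊥

namespace TS

variable {G Ω : Type u} [Group G] [Finite G] [MulAction G Ω] {z : G} {a b : Ω} {R : Subgroup G}
  {Q E D : Subgroup (Im G Ω)} {k i : ℕ}

omit [Finite G] in
theorem comm_R (h : TS G Ω z a R) {n r : G} (hn : n ∈ ker G Ω) (hr : r ∈ R) : n * r = r * n := by
  have h1 : n * r * n⁻¹ * r⁻¹ = 1 := by
    apply h.Rk
    · exact R.mul_mem (h.Rn n (mem_ker.mp hn a) r hr) (R.inv_mem hr)
    · have e : n * r * n⁻¹ * r⁻¹ = n * (r * n⁻¹ * r⁻¹) := by group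
      rw [e]
      exact mul_mem hn (ker_normal.conj_mem _ (inv_mem hn) r)
  rw [mul_inv_eq_one, mul_inv_eq_iff_eq_mul] at h1
  exact h1

omit [Finite G] in
/-- the kernel centralises the normal closure of `R` -/
theorem comm_K (h : TS G Ω z a R) {n x : G} (hn : n ∈ ker G Ω)
    (hx : x ∈ normalClosure (R : Set G)) : n * x = x * n := by
  have hle : normalClosure (R : Set G) ≤ centralizer ((ker G Ω : Subgroup G) : Set G) := by
    refine normalClosure_le_normal ?_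
    intro r hr
    rw [SetLike.mem_coe, mem_centralizer_iff]
    intro m hm
    exact h.comm_R hm hr
  exact (mem_centralizer_iff.mp (hle hx)) n hn

omit [Finite G] in
theorem X_le (h : TS G Ω z a R) : normalClosure ({z} : Set G) ≤ normalClosure (R : Set G) :=
  normalClosure_mono (Set.singleton_subset_iff.mpr h.zR)

omit [Finite G] in
theorem comm_X (h : TS G Ω z a R) {n x : G} (hn : n ∈ ker G Ω)
    (hx : x ∈ normalClosure ({z} : Set G)) : n * x = x * n := h.comm_K hn (h.X_le hx)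

/-- no elements of odd order in `X ∩ N₀` -/
theorem eq_one_of_odd (h : TS G Ω z a R) {c : G} (hc : c ∈ ker G Ω)
    (hx : c ∈ normalClosure ({z} : Set G)) (hodd : Odd (orderOf c)) : c = 1 := by
  set N : Subgroup G := normalClosure ({z} : Set G) ⊓ ker G Ω with hN
  have hNn : N.Normal := inferInstance
  have h1 := Cfsg.Agent.Lib.Cores.map_subtype_pPrimeCore 2 hNn
  have hcN : c ∈ N := ⟨hx, hc⟩
  have hzn : (zpowers (⟨c, hcN⟩ : N)).Normal := by
    refine ⟨?_⟩
    rintro x hx' ⟨g, hg⟩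
    obtain ⟨j, rfl⟩ := mem_zpowers_iff.mp hx'
    have h2 : (⟨g, hg⟩ : N) * ⟨c, hcN⟩ = ⟨c, hcN⟩ * ⟨g, hg⟩ :=
      Subtype.ext (h.comm_X hg.2 hx)
    have h3 : (⟨g, hg⟩ : N) * ⟨c, hcN⟩ ^ j * (⟨g, hg⟩ : N)⁻¹ = ⟨c, hcN⟩ ^ j := by
      rw [((show Commute (⟨g, hg⟩ : N) ⟨c, hcN⟩ from h2).zpow_right j).eq]; group
    rw [h3]; exact hx'
  have h2 : (⟨c, hcN⟩ : N) ∈ pPrimeCore 2 N := by
    refine (Cfsg.Agent.Lib.Cores.le_pPrimeCore hzn ?_) (mem_zpowers _)
    rw [Nat.card_zpowers, Subgroup.orderOf_mk]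
    exact Nat.coprime_two_right.mpr hodd
  have h3 : c ∈ (pPrimeCore 2 N).map N.subtype := ⟨_, h2, rfl⟩
  rw [h1] at h3
  have h4 : c ∈ kcore G Ω := ⟨hc, h3.2⟩
  rw [h.core, Subgroup.mem_bot] at h4
  exact h4

omit [Finite G] in
theorem exists_lift {l : Im G Ω} (hl : l ∈ L (pr G Ω z)) :
    ∃ x ∈ normalClosure ({z} : Set G), pr G Ω x = l := by
  have h2 : (normalClosure ({z} : Set G)).map (pr G Ω) = normalClosure ((pr G Ω) '' ({z} : Set G)) :=
    Subgroup.map_normalClosure _ _ pr_surjective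
  rw [Set.image_singleton] at h2
  have h3 : l ∈ (normalClosure ({z} : Set G)).map (pr G Ω) := by rw [h2]; exact hl
  exact h3

omit [Finite G] in
theorem pr_mem {x : G} (hx : x ∈ normalClosure ({z} : Set G)) :
    pr G Ω x ∈ L (pr G Ω z) := by
  have h2 : (normalClosure ({z} : Set G)).map (pr G Ω) = normalClosure ((pr G Ω) '' ({z} : Set G)) :=
    Subgroup.map_normalClosure _ _ pr_surjective
  rw [Set.image_singleton] at h2
  show pr G Ω x ∈ normalClosure ({pr G Ω z} : Set (Im G Ω))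
  rw [← h2]
  exact ⟨x, hx, rfl⟩

omit [Finite G] in
theorem R_inj (h : TS G Ω z a R) {r s : G} (hr : r ∈ R) (hs : s ∈ R)
    (hrs : pr G Ω r = pr G Ω s) : r = s := by
  have h1 : r * s⁻¹ ∈ ker G Ω := by
    rw [← pr_eq_one_iff, map_mul, map_inv, hrs, mul_inv_cancel]
  exact mul_inv_eq_one.mp (h.Rk _ (R.mul_mem hr (R.inv_mem hs)) h1)

/-- lifts of the elements of `E` -/
theorem exists_lift_E (h : TS G Ω z a R) (hB : Bdr a b (L (pr G Ω z)) Q E D k i) {e : Im G Ω}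
    (he : e ∈ E) : ∃ r ∈ R, r ∈ normalClosure ({z} : Set G) ∧ pr G Ω r = e := by
  by_cases he1 : e = 1
  · exact ⟨1, R.one_mem, one_mem _, by rw [map_one, he1]⟩
  obtain ⟨heQ, hee⟩ := (hB.memE e).mp he
  have hne := hB.ne
  have hSI := setup_im h.setup
  have hconj : IsConj (pr G Ω z) e := by
    rcases isConj_or_bad hSI faithful_im (orderOf_eq_two_of_mul_self hee he1) with h1 | h1
    · exact h1
    · exfalso
      obtain ⟨-, p, q, hpq, hp, hq⟩ := h1
      by_cases hpa : p = a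
      · have hqa : q ≠ a := fun hh => hpq (by rw [hpa, hh])
        exact he1 (hB.freeQ e heQ q hqa hq)
      · exact he1 (hB.freeQ e heQ p hpa hp)
  obtain ⟨g, hg⟩ := isConj_iff.mp hconj
  obtain ⟨γ, rfl⟩ := pr_surjective g
  have h1 : pr G Ω (γ * z * γ⁻¹) = e := by rw [map_mul, map_mul, map_inv]; exact hg
  have h2 : (γ * z * γ⁻¹) • a = a := by
    rw [← pr_smul, h1]; exact hB.fixQ e heQ
  have h3 : (γ * z * γ⁻¹) • (γ • a) = γ • a := by
    rw [mul_smul, mul_smul, inv_smul_smul, h.fa]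
  have h4 : γ • a = a := h.setup.uniq (isConj_iff.mpr ⟨γ, rfl⟩) h3 h2
  exact ⟨_, h.Rn γ h4 z h.zR,
    normalClosure_normal.conj_mem z (subset_normalClosure (Set.mem_singleton z)) γ, h1⟩

/-- the preimage of the Sylow 2-subgroup in the normal closure of `z` -/
def PP (z : G) (Q : Subgroup (Im G Ω)) : Subgroup G :=
  normalClosure ({z} : Set G) ⊓ Q.comap (pr G Ω)

/-- the lift of `E` -/
def Eh (z : G) (R : Subgroup G) (E : Subgroup (Im G Ω)) : Subgroup G :=
  R ⊓ (normalClosure ({z} : Set G) ⊓ E.comap (pr G Ω))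

omit [Finite G] in
theorem mem_PP {x : G} : x ∈ PP z Q ↔ x ∈ normalClosure ({z} : Set G) ∧ pr G Ω x ∈ Q := Iff.rfl

omit [Finite G] in
theorem mem_Eh {x : G} : x ∈ Eh z R E ↔
    x ∈ R ∧ x ∈ normalClosure ({z} : Set G) ∧ pr G Ω x ∈ E := Iff.rfl

omit [Finite G] in
theorem Eh_le_PP (hB : Bdr a b (L (pr G Ω z)) Q E D k i) : Eh z R E ≤ PP z Q :=
  fun _ hx => ⟨hx.2.1, hB.EQ hx.2.2⟩

theorem comm_Eh (h : TS G Ω z a R) (hB : Bdr a b (L (pr G Ω z)) Q E D k i) {e p : G}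
    (he : e ∈ Eh z R E) (hp : p ∈ PP z Q) : e * p = p * e := by
  obtain ⟨he1, he2, he3⟩ := mem_Eh.mp he
  obtain ⟨hp1, hp2⟩ := mem_PP.mp hp
  have hpa : p • a = a := by rw [← pr_smul]; exact hB.fixQ _ hp2
  have h1 : e * p * e⁻¹ * p⁻¹ = 1 := by
    apply h.Rk
    · have e1 : e * p * e⁻¹ * p⁻¹ = e * (p * e⁻¹ * p⁻¹) := by group
      rw [e1]; exact R.mul_mem he1 (h.Rn p hpa _ (R.inv_mem he1))
    · rw [← pr_eq_one_iff, map_mul, map_mul, map_mul, map_inv, map_inv, hB.cenE _ he3 _ hp2]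
      group
  rw [mul_inv_eq_one, mul_inv_eq_iff_eq_mul] at h1
  exact h1

/-- elements of the preimage of `E` -/
theorem exists_dec (h : TS G Ω z a R) (hB : Bdr a b (L (pr G Ω z)) Q E D k i) {x : G}
    (hx : x ∈ normalClosure ({z} : Set G)) (hxE : pr G Ω x ∈ E) :
    ∃ e ∈ Eh z R E, ∃ c ∈ normalClosure ({z} : Set G), c ∈ ker G Ω ∧ x = e * c := by
  obtain ⟨r, hr, hrX, hre⟩ := h.exists_lift_E hB hxE
  refine ⟨r, mem_Eh.mpr ⟨hr, hrX, by rw [hre]; exact hxE⟩, r⁻¹ * x, mul_mem (inv_mem hrX) hx, ?_,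
    by group⟩
  rw [← pr_eq_one_iff, map_mul, map_inv, hre, inv_mul_cancel]

theorem comm_of_E (h : TS G Ω z a R) (hB : Bdr a b (L (pr G Ω z)) Q E D k i) {x y : G}
    (hx : x ∈ normalClosure ({z} : Set G)) (hxE : pr G Ω x ∈ E) (hy : y ∈ PP z Q) :
    x * y = y * x := by
  obtain ⟨e, he, c, hc, hck, rfl⟩ := h.exists_dec hB hx hxE
  rw [mul_assoc, h.comm_X hck hy.1, ← mul_assoc, h.comm_Eh hB he hy, mul_assoc]

theorem PP_relIndex (h : TS G Ω z a R) (hB : Bdr a b (L (pr G Ω z)) Q E D k i) :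
    ¬ 2 ∣ ((PP z Q).subgroupOf (normalClosure ({z} : Set G))).index := by
  have h1 : ((PP z Q).subgroupOf (normalClosure ({z} : Set G))).index =
      (PP z Q).relIndex (normalClosure ({z} : Set G)) := rfl
  have h2 : (normalClosure ({z} : Set G)).map (pr G Ω) = normalClosure ((pr G Ω) '' ({z} : Set G)) :=
    Subgroup.map_normalClosure _ _ pr_surjective
  rw [Set.image_singleton] at h2
  have h3 : (PP z Q).relIndex (normalClosure ({z} : Set G)) = Q.relIndex (L (pr G Ω z)) := by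
    rw [PP, inf_relIndex_left, relIndex_comap, h2]
  rw [h1, h3]
  have h4 := Bdr.relIndex_mul hB.QL
  rw [hB.cardL, mul_assoc] at h4
  have h5 := Nat.eq_of_mul_eq_mul_left Nat.card_pos h4
  rw [h5]
  have hev : Even (Nat.card Q) := by
    have h6 := Subgroup.card_dvd_of_le hB.EQ
    rw [hB.cardE] at h6
    have h7 : 2 ∣ 2 ^ k := dvd_pow_self 2 (by have := hB.two_le; omega)
    exact even_iff_two_dvd.mpr (h7.trans h6)
  have h8 : Odd (Nat.card D * (Nat.card Q + 1)) := hB.oddD.mul hev.add_one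
  intro h9
  exact (Nat.not_even_iff_odd.mpr h8) (even_iff_two_dvd.mpr h9)

/-- if `[P, P] ≤ Eh` then `[X, X]` meets the kernel trivially -/
theorem eq_one_of_comEh (h : TS G Ω z a R) (hB : Bdr a b (L (pr G Ω z)) Q E D k i)
    (hcom : ∀ x ∈ PP z Q, ∀ y ∈ PP z Q, x * y * x⁻¹ * y⁻¹ ∈ Eh z R E) {c : G}
    (hck : c ∈ ker G Ω) (hc : c ∈ ⁅normalClosure ({z} : Set G), normalClosure ({z} : Set G)⁆) :
    c = 1 := by
  set X := normalClosure ({z} : Set G) with hX
  have hcX : c ∈ X := (Subgroup.commutator_le_self X) hc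
  have h1 : (⟨c, hcX⟩ : X) ∈ commutator X := by
    have h2 : (commutator X).map X.subtype = ⁅X, X⁆ := by
      rw [commutator_def, map_commutator, ← MonoidHom.range_eq_map, X.range_subtype]
    rw [← h2] at hc
    obtain ⟨⟨y, hy⟩, hy2, hy3⟩ := hc
    have : (⟨c, hcX⟩ : X) = ⟨y, hy⟩ := Subtype.ext hy3.symm
    rw [this]; exact hy2
  have h2 := pow_index_mem (P := (PP z Q).subgroupOf X) (Eh := (Eh z R E).subgroupOf X) (by
    intro x hx y hy
    rw [Subgroup.mem_subgroupOf] at hx hy ⊢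
    exact hcom x hx y hy) (c := ⟨c, hcX⟩) (fun x => Subtype.ext (h.comm_X hck x.2).symm) h1
  rw [Subgroup.mem_subgroupOf] at h2
  set n := ((PP z Q).subgroupOf X).index with hn
  have h3 : c ^ n = 1 := by
    have h4 : ((⟨c, hcX⟩ : X) ^ n : X).1 = c ^ n := rfl
    rw [h4] at h2
    exact h.Rk _ h2.1 (pow_mem hck n)
  have h4 : ¬ 2 ∣ n := h.PP_relIndex hB
  have h5 : Odd (orderOf c) := by
    rw [← Nat.not_even_iff_odd, even_iff_two_dvd]
    intro h6
    exact h4 (h6.trans (orderOf_dvd_of_pow_eq_one h3))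
  exact h.eq_one_of_odd hck hcX h5

theorem comEh_one (h : TS G Ω z a R) (hB : Bdr a b (L (pr G Ω z)) Q E D k i) (hi : i = 1) {x y : G}
    (hx : x ∈ PP z Q) (hy : y ∈ PP z Q) : x * y * x⁻¹ * y⁻¹ ∈ Eh z R E := by
  have hcE := hB.cardE
  have hcQ := hB.cardQ
  rw [hi, pow_one, ← hcE] at hcQ
  have hQE : Q = E := (Subgroup.eq_of_le_of_card_ge hB.EQ hcQ.le).symm
  have h1 := h.comm_of_E hB hx.1 (show pr G Ω x ∈ E from hQE ▸ hx.2) hy
  rw [h1]
  have : y * x * x⁻¹ * y⁻¹ = 1 := by group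
  rw [this]; exact one_mem _

theorem comEh_two (h : TS G Ω z a R) (hB : Bdr a b (L (pr G Ω z)) Q E D k i) (hi : i = 2)
    (hk : Odd k) {x y : G} (hx : x ∈ PP z Q) (hy : y ∈ PP z Q) :
    x * y * x⁻¹ * y⁻¹ ∈ Eh z R E := by
  by_contra hne
  set X := normalClosure ({z} : Set G) with hX
  -- elements of the preimage of `E`
  set W : Subgroup G := X ⊓ E.comap (pr G Ω) with hW
  have hWP : W ≤ PP z Q := fun w hw => ⟨hw.1, hB.EQ hw.2⟩
  obtain ⟨N, hEN, hNM, S, hS, hStop, n, hn⟩ := Cfsg.Agent.H23.Parity.exists_quotient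
    (P := PP z Q) (Ep := (Eh z R E).subgroupOf (PP z Q)) (M := W.subgroupOf (PP z Q))
    (by
      intro w hw
      rw [Subgroup.mem_subgroupOf] at hw ⊢
      exact hw.2)
    (by
      intro w hw
      rw [Subgroup.mem_subgroupOf] at hw
      rw [mem_center_iff]
      intro g
      exact Subtype.ext (h.comm_of_E hB hw.1 hw.2 g.2).symm)
    (by
      rw [commutator_def, Subgroup.commutator_le]
      intro u _ v _
      rw [Subgroup.mem_subgroupOf, commutatorElement_def]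
      refine ⟨?_, ?_⟩
      · exact X.mul_mem (X.mul_mem (X.mul_mem u.2.1 v.2.1) (X.inv_mem u.2.1)) (X.inv_mem v.2.1)
      · show pr G Ω ((u : G) * v * (u : G)⁻¹ * (v : G)⁻¹) ∈ E
        rw [map_mul, map_mul, map_mul, map_inv, map_inv]
        exact hB.comE u.2.2 v.2.2)
    (by
      intro u
      rw [Subgroup.mem_subgroupOf]
      refine ⟨mul_mem u.2.1 u.2.1, ?_⟩
      show pr G Ω ((u : G) * u) ∈ E
      rw [map_mul]
      exact hB.sqE _ u.2.2)
    (by
      intro hc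
      apply hne
      have h1 : (⁅(⟨x, hx⟩ : PP z Q), ⟨y, hy⟩⁆ : PP z Q) ∈ (Eh z R E).subgroupOf (PP z Q) :=
        hc (Cfsg.Agent.Transfer.Extraspecial.comm_mem _ _)
      rw [Subgroup.mem_subgroupOf, commutatorElement_def] at h1
      exact h1)
  -- the image of `S`
  let f : PP z Q →* Im G Ω := (pr G Ω).comp (PP z Q).subtype
  have hfr : f.range = Q := by
    ext g
    constructor
    · rintro ⟨u, rfl⟩
      exact u.2.2
    · intro hg
      obtain ⟨u, hu, rfl⟩ := exists_lift (z := z) (hB.QL hg)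
      exact ⟨⟨u, hu, hg⟩, rfl⟩
  have hkS : f.ker ≤ S := by
    intro u hu
    rw [hS]
    intro v
    have h1 : (u : G) ∈ ker G Ω := pr_eq_one_iff.mp hu
    have h2 : u * v = v * u := Subtype.ext (h.comm_X h1 v.2.1)
    rw [h2]
    have : v * u * u⁻¹ * v⁻¹ = 1 := by group
    rw [this]; exact one_mem _
  have hSc : (S.map f).comap f = S := by
    rw [comap_map_eq, sup_eq_left.mpr hkS]
  have hSQ : S.map f ≤ Q := by
    rintro _ ⟨u, -, rfl⟩
    exact u.2.2
  have hidx : S.index = (S.map f).relIndex Q := by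
    have h1 : (S.map f).relIndex f.range = (S.map f).relIndex Q :=
      congrArg (fun A : Subgroup (Im G Ω) => (S.map f).relIndex A) hfr
    rw [← h1, ← index_comap, hSc]
  have hES : E ≤ S.map f := by
    intro e he
    obtain ⟨r, hr, hrX, hre⟩ := h.exists_lift_E hB he
    have hrP : r ∈ PP z Q := ⟨hrX, by show pr G Ω r ∈ Q; rw [hre]; exact hB.EQ he⟩
    refine ⟨⟨r, hrP⟩, ?_, hre⟩
    rw [SetLike.mem_coe, hS]
    intro v
    have hrE : r ∈ Eh z R E := mem_Eh.mpr ⟨hr, hrX, by rw [hre]; exact he⟩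
    have h2 : (⟨r, hrP⟩ : PP z Q) * v = v * ⟨r, hrP⟩ := Subtype.ext (h.comm_Eh hB hrE v.2)
    rw [h2]
    have : v * (⟨r, hrP⟩ : PP z Q) * (⟨r, hrP⟩ : PP z Q)⁻¹ * v⁻¹ = 1 := by group
    rw [this]; exact one_mem _
  have hSD : ∀ d ∈ D, ∀ s ∈ S.map f, d * s * d⁻¹ ∈ S.map f := by
    rintro d hd _ ⟨⟨u, hu⟩, huS, rfl⟩
    obtain ⟨δ, hδ, hδd⟩ := exists_lift (z := z) (hB.DL hd)
    have hda := hB.fixD hd
    have hδa : δ • a = a := by rw [← pr_smul, hδd]; exact hda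
    have hdia : d⁻¹ • a = a := by rw [inv_smul_eq_iff, hda]
    have hδu : δ * u * δ⁻¹ ∈ PP z Q := by
      refine ⟨X.mul_mem (X.mul_mem hδ hu.1) (X.inv_mem hδ), ?_⟩
      show pr G Ω (δ * u * δ⁻¹) ∈ Q
      rw [map_mul, map_mul, map_inv, hδd]
      exact hB.normQ hda hu.2
    refine ⟨⟨δ * u * δ⁻¹, hδu⟩, ?_, ?_⟩
    · rw [SetLike.mem_coe, hS] at huS ⊢
      rintro ⟨v, hv⟩
      have hv' : δ⁻¹ * v * δ ∈ PP z Q := by
        refine ⟨X.mul_mem (X.mul_mem (X.inv_mem hδ) hv.1) hδ, ?_⟩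
        show pr G Ω (δ⁻¹ * v * δ) ∈ Q
        rw [map_mul, map_mul, map_inv, hδd]
        have := hB.normQ hdia hv.2
        rwa [inv_inv] at this
      have h1 := huS ⟨δ⁻¹ * v * δ, hv'⟩
      set c : PP z Q := ⟨u, hu⟩ * ⟨δ⁻¹ * v * δ, hv'⟩ * ⟨u, hu⟩⁻¹ * ⟨δ⁻¹ * v * δ, hv'⟩⁻¹ with hc
      have hcW : (c : G) ∈ W := Subgroup.mem_subgroupOf.mp (hNM h1)
      have hcv : (c : G) = u * (δ⁻¹ * v * δ) * u⁻¹ * (δ⁻¹ * v * δ)⁻¹ := rfl
      obtain ⟨e, he, w, hwX, hwk, hew⟩ := h.exists_dec hB hcW.1 hcW.2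
      -- `δ c δ⁻¹ = (δ e δ⁻¹ e⁻¹) c`
      have hδe : δ * e * δ⁻¹ ∈ Eh z R E := by
        refine mem_Eh.mpr ⟨h.Rn δ hδa e he.1, normalClosure_normal.conj_mem e he.2.1 δ, ?_⟩
        rw [map_mul, map_mul, map_inv, hδd]
        exact hB.normE hda he.2.2
      have hwc := h.comm_X hwk hδ
      have h2 : δ * (c : G) * δ⁻¹ = (δ * e * δ⁻¹ * e⁻¹) * (c : G) := by
        rw [hew]
        calc δ * (e * w) * δ⁻¹ = δ * e * (w * δ⁻¹) := by group
          _ = δ * e * δ⁻¹ * (δ * w) * δ⁻¹ := by group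
          _ = δ * e * δ⁻¹ * (w * δ) * δ⁻¹ := by rw [hwc]
          _ = (δ * e * δ⁻¹ * e⁻¹) * (e * w) := by group
      have h3 : δ * e * δ⁻¹ * e⁻¹ ∈ Eh z R E := mul_mem hδe (inv_mem he)
      have h4 : (⟨δ * e * δ⁻¹ * e⁻¹, Eh_le_PP hB h3⟩ : PP z Q) ∈ N :=
        hEN (Subgroup.mem_subgroupOf.mpr h3)
      have h5 := N.mul_mem h4 h1
      have h6 : (⟨δ * u * δ⁻¹, hδu⟩ * ⟨v, hv⟩ * ⟨δ * u * δ⁻¹, hδu⟩⁻¹ * ⟨v, hv⟩⁻¹ : PP z Q) =
          ⟨δ * e * δ⁻¹ * e⁻¹, Eh_le_PP hB h3⟩ * c := by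
        apply Subtype.ext
        show (δ * u * δ⁻¹) * v * (δ * u * δ⁻¹)⁻¹ * v⁻¹ = (δ * e * δ⁻¹ * e⁻¹) * (c : G)
        rw [← h2, hcv]; group
      rw [h6]; exact h5
    · show pr G Ω (δ * u * δ⁻¹) = d * pr G Ω u * d⁻¹
      rw [map_mul, map_mul, map_inv, hδd]
  have hcE := hB.cardE
  have hcQ := hB.cardQ
  rcases hB.eq_or_eq hES hSQ hSD with h1 | h1
  · rw [hidx, h1] at hn
    have h2 := Bdr.relIndex_mul hB.EQ
    rw [hn, hcE, hcQ, hi, pow_two] at h2
    have h3 := Nat.eq_of_mul_eq_mul_left (by positivity) h2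
    have h4 : 2 * n = k := Nat.pow_right_injective le_rfl h3
    rw [← h4] at hk
    exact (Nat.not_even_iff_odd.mpr hk) (even_two_mul n)
  · rw [h1, relIndex_self] at hidx
    exact hStop (index_eq_one.mp hidx)

omit [Finite G] in
theorem commutator_L [Finite (Im G Ω)] (hB : Bdr a b (L (pr G Ω z)) Q E D k i) :
    commutator (L (pr G Ω z)) = ⊤ := by
  have hs := hB.simple
  rcases hs.eq_bot_or_eq_top_of_normal (commutator (L (pr G Ω z))) inferInstance with h1 | h1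
  · exfalso
    obtain ⟨d, hd, hdf⟩ := hB.fpf
    have hbot : E = ⊥ := by
      rw [Subgroup.eq_bot_iff_forall]
      intro e he
      apply hdf e (hB.EQ he)
      have h2 : (⟨d, hB.DL hd⟩ : L (pr G Ω z)) * ⟨e, hB.QL (hB.EQ he)⟩ =
          ⟨e, hB.QL (hB.EQ he)⟩ * ⟨d, hB.DL hd⟩ := by
        have h3 := Cfsg.Agent.Transfer.Extraspecial.comm_mem (⟨d, hB.DL hd⟩ : L (pr G Ω z))
          ⟨e, hB.QL (hB.EQ he)⟩
        rw [h1, Subgroup.mem_bot, commutatorElement_eq_one_iff_mul_comm] at h3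
        exact h3
      exact congrArg Subtype.val h2
    have h2 := hB.cardE
    rw [hbot, Subgroup.card_bot] at h2
    have := hB.four_le
    omega
  · exact h1

/-- the derived group of `X` maps onto `L` -/
theorem exists_lift' (hB : Bdr a b (L (pr G Ω z)) Q E D k i) {l : Im G Ω}
    (hl : l ∈ L (pr G Ω z)) :
    ∃ x ∈ ⁅normalClosure ({z} : Set G), normalClosure ({z} : Set G)⁆, pr G Ω x = l := by
  have h1 := commutator_L hB
  have h2 : (commutator (L (pr G Ω z))).map (L (pr G Ω z)).subtype =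
      ⁅L (pr G Ω z), L (pr G Ω z)⁆ := by
    rw [commutator_def, map_commutator, ← MonoidHom.range_eq_map, Subgroup.range_subtype]
  rw [h1, ← MonoidHom.range_eq_map, Subgroup.range_subtype] at h2
  have h3 : (normalClosure ({z} : Set G)).map (pr G Ω) = L (pr G Ω z) := by
    have := Subgroup.map_normalClosure ({z} : Set G) (pr G Ω) pr_surjective
    rw [Set.image_singleton] at this
    exact this
  rw [h2, ← h3, ← map_commutator] at hl
  exact hl

theorem eq_one_three (h : TS G Ω z a R) (hB : Bdr a b (L (pr G Ω z)) Q E D k i)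
    {F : Type} [Field F] [Fintype F] (hF : Fintype.card F = (2 ^ k) ^ 2)
    (e : L (pr G Ω z) ≃* Cfsg.PSU 3 F (2 ^ k)) {c : G}
    (hck : c ∈ ker G Ω) (hc : c ∈ ⁅normalClosure ({z} : Set G), normalClosure ({z} : Set G)⁆) :
    c = 1 := by
  set X := normalClosure ({z} : Set G) with hX
  set X₁ := ⁅X, X⁆ with hX₁
  have hX₁X : X₁ ≤ X := Subgroup.commutator_le_self X
  have hND : Cfsg.Agent.KFacts.MulDef.NoDouble (Cfsg.PSU 3 F (2 ^ k)) :=
    Cfsg.Agent.KFacts.Mult.Unitary.u3 F k hB.two_le (by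
      rw [hF, ← pow_mul, mul_comm, pow_mul]; norm_num)
  -- `X₁` is perfect
  have hperf : commutator X₁ = ⊤ := by
    have h2 : (commutator X₁).map X₁.subtype = ⁅X₁, X₁⁆ := by
      rw [commutator_def, map_commutator, ← MonoidHom.range_eq_map, Subgroup.range_subtype]
    have h3 : X₁ ≤ ⁅X₁, X₁⁆ := by
      conv_lhs => rw [hX₁]
      rw [Subgroup.commutator_le]
      intro x hx y hy
      obtain ⟨x', hx', hxx⟩ := exists_lift' hB (pr_mem (z := z) hx)
      obtain ⟨y', hy', hyy⟩ := exists_lift' hB (pr_mem (z := z) hy)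
      have hcx : x'⁻¹ * x ∈ ker G Ω := by
        rw [← pr_eq_one_iff, map_mul, map_inv, hxx, inv_mul_cancel]
      have hcy : y'⁻¹ * y ∈ ker G Ω := by
        rw [← pr_eq_one_iff, map_mul, map_inv, hyy, inv_mul_cancel]
      set u := x'⁻¹ * x with hu
      set v := y'⁻¹ * y with hv
      have ex : x = x' * u := by rw [hu]; group
      have ey : y = y' * v := by rw [hv]; group
      have h4 : ⁅x, y⁆ = ⁅x', y'⁆ := by
        have c1 : u * y = y * u := h.comm_X hcx hy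
        have c2 : v * x' = x' * v := h.comm_X hcy (hX₁X hx')
        have c3 : v * x'⁻¹ = x'⁻¹ * v := h.comm_X hcy (inv_mem (hX₁X hx'))
        rw [commutatorElement_def, commutatorElement_def]
        calc x * y * x⁻¹ * y⁻¹ = x' * (u * y) * u⁻¹ * x'⁻¹ * y⁻¹ := by
              rw [ex]; group
          _ = x' * y * x'⁻¹ * y⁻¹ := by rw [c1]; group
          _ = x' * y' * (v * x'⁻¹) * v⁻¹ * y'⁻¹ := by rw [ey]; group
          _ = x' * y' * x'⁻¹ * y'⁻¹ := by rw [c3]; group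
      rw [h4]
      exact Subgroup.commutator_mem_commutator hx' hy'
    rw [eq_top_iff]
    rintro ⟨x, hx⟩ -
    have h4 := h3 hx
    rw [← h2] at h4
    obtain ⟨⟨w, hw⟩, hw2, hw3⟩ := h4
    have : (⟨x, hx⟩ : X₁) = ⟨w, hw⟩ := Subtype.ext hw3.symm
    rw [this]; exact hw2
  let f : X₁ →* L (pr G Ω z) :=
    ((pr G Ω).comp X₁.subtype).codRestrict (L (pr G Ω z)) (fun x => pr_mem (z := z) (hX₁X x.2))
  have hfs : Function.Surjective f := by
    rintro ⟨l, hl⟩
    obtain ⟨x, hx, hxl⟩ := exists_lift' hB hl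
    exact ⟨⟨x, hx⟩, Subtype.ext hxl⟩
  have hker : ∀ x : X₁, x ∈ f.ker ↔ (x : G) ∈ ker G Ω := by
    intro x
    rw [MonoidHom.mem_ker, ← pr_eq_one_iff]
    constructor
    · intro hh
      exact congrArg Subtype.val hh
    · intro hh
      exact Subtype.ext hh
  have hodd := hND.odd_card (K := X₁) hperf (f := e.toMonoidHom.comp f) (e.surjective.comp hfs) (by
    intro x hx
    have hx' : x ∈ f.ker := by
      rw [MonoidHom.mem_ker] at hx ⊢
      have : e (f x) = 1 := hx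
      rwa [map_eq_one_iff e e.injective] at this
    rw [mem_center_iff]
    intro g
    exact Subtype.ext (h.comm_X ((hker x).mp hx') (hX₁X g.2)).symm)
  have hcker : (⟨c, hc⟩ : X₁) ∈ (e.toMonoidHom.comp f).ker := by
    rw [MonoidHom.mem_ker]
    show e (f ⟨c, hc⟩) = 1
    rw [map_eq_one_iff e e.injective, ← MonoidHom.mem_ker, hker]
    exact hck
  apply h.eq_one_of_odd hck (hX₁X hc)
  have h5 : orderOf (⟨c, hc⟩ : X₁) ∣ Nat.card (e.toMonoidHom.comp f).ker := by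
    rw [← Subgroup.orderOf_mk _ hcker]; exact orderOf_dvd_natCard _
  rw [Subgroup.orderOf_mk] at h5
  exact hodd.of_dvd_nat h5

/-- **`[X, X]` meets the kernel trivially.** -/
theorem eq_one_of_commutator (h : TS G Ω z a R) (hB : Bdr a b (L (pr G Ω z)) Q E D k i) {c : G}
    (hck : c ∈ ker G Ω) (hc : c ∈ ⁅normalClosure ({z} : Set G), normalClosure ({z} : Set G)⁆) :
    c = 1 := by
  rcases hB.typ with h1 | ⟨h1, h2, -⟩ | ⟨-, -, F, _, _, hF, ⟨e⟩⟩
  · exact h.eq_one_of_comEh hB (fun x hx y hy => h.comEh_one hB h1 hx hy) hck hc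
  · exact h.eq_one_of_comEh hB (fun x hx y hy => h.comEh_two hB h1 h2 hx hy) hck hc
  · exact h.eq_one_three hB hF e hck hc

end TS

end Cfsg.Agent.H23.CentralKer
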