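import Cfsg.Agent.H23.Bdr
import Cfsg.Agent.AschCrit.Closed

/-!
# 2-elements outside the Bender group

`Setup G Ω z` faithful, `L` a Bender group normal in `G`, `R` a normal subgroup of `G_a` containing `E` all of
whose involutions fix only `a`.  Then the 2-elements of `R` lie in `L` (`mem_of_two`).
-/

set_option autoImplicit false

open Subgroup

namespace Cfsg.Agent.H23.OuterTwo

open Cfsg.Agent.TwoFusion.StronglyEmbeddedBasic Cfsg.Agent.AschCrit.Basic
open Cfsg.Agent.AschCrit.Basic.Setup Cfsg.Agent.AschCrit.Closed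
open Cfsg.Agent.H23.BD Cfsg.Agent.H23.RankOneBd

variable {G Ω : Type*} [Group G] [MulAction G Ω] {z : G} {a b : Ω} {L Q E D R : Subgroup G}
  {k i : ℕ}

/-- an element of `R` outside `L` with square in `L` gives an involution fixing `a` and `b` -/
theorem exists_invol (hB : Bdr a b L Q E D k i) {x : G} (hxa : x • a = a) (hxL : x ∉ L)
    (hxx : x * x ∈ L) (hp : IsPGroup 2 (zpowers x)) :
    ∃ s ∈ Q, (s⁻¹ * x) • a = a ∧ (s⁻¹ * x) • b = b ∧ (s⁻¹ * x) * (s⁻¹ * x) = 1 ∧
      s⁻¹ * x ∉ L := by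
  have hxb : x • b ≠ a := by
    intro hh
    apply hB.ne
    have : x • b = x • a := by rw [hh, hxa]
    exact (smul_left_cancel x this).symm
  obtain ⟨s, hs, hsb⟩ := hB.regQ _ hxb
  have hxxQ : x * x ∈ Q := by
    refine hB.memQ _ hxx (by rw [mul_smul, hxa, hxa]) ?_
    exact hp.to_le (zpowers_le.mpr (mul_mem (mem_zpowers x) (mem_zpowers x)))
  have hsa : s⁻¹ • a = a := by rw [inv_smul_eq_iff, hB.fixQ s hs]
  have hyb : (s⁻¹ * x) • b = b := by rw [mul_smul, ← hsb, inv_smul_smul]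
  refine ⟨s, hs, by rw [mul_smul, hxa, hsa], hyb, ?_, ?_⟩
  · have h1 : (s⁻¹ * x) * (s⁻¹ * x) = s⁻¹ * (x * s⁻¹ * x⁻¹) * (x * x) := by group
    have h2 : (s⁻¹ * x) * (s⁻¹ * x) ∈ Q := by
      rw [h1]
      exact mul_mem (mul_mem (inv_mem hs) (hB.normQ hxa (inv_mem hs))) hxxQ
    exact hB.freeQ _ h2 b hB.ne.symm (by rw [mul_smul, hyb, hyb])
  · intro hh
    apply hxL
    have : x = s * (s⁻¹ * x) := by group
    rw [this]
    exact mul_mem (hB.QL hs) hh

theorem arith_two {q c : ℕ} (hq : 4 ≤ q) (h : q ^ 2 * (q - 1) * (q ^ 2 + 1) = (q + 1) * c) :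
    False := by
  obtain ⟨m, rfl⟩ := Nat.exists_eq_add_of_le hq
  have e1 : 4 + m - 1 = 3 + m := by omega
  rw [e1] at h
  have h1 : ((4 + m : ℤ) + 1) ∣ 4 := by
    refine ⟨(4 + m : ℤ) ^ 4 - 2 * (4 + m) ^ 3 + 3 * (4 + m) ^ 2 - 4 * (4 + m) + 4 - c, ?_⟩
    have h2 : ((4 + m : ℤ)) ^ 2 * (3 + m) * ((4 + m) ^ 2 + 1) = (4 + m + 1) * c := by
      exact_mod_cast h
    linear_combination (-1 : ℤ) * h2
  have h2 := Int.le_of_dvd (by norm_num) h1
  omega

theorem mem_of_two [Finite G] (h : Setup G Ω z) (hf : ∀ g : G, (∀ a : Ω, g • a = a) → g = 1)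
    (hB : Bdr a b L Q E D k i) (hL : ∀ d : G, IsConj z d → d ∈ L)
    (hRa : ∀ r ∈ R, r • a = a) (hRn : ∀ g : G, g • a = a → ∀ r ∈ R, g * r * g⁻¹ ∈ R)
    (hRi : ∀ r ∈ R, r * r = 1 → r ≠ 1 → ∀ c : Ω, r • c = c → c = a) (hER : E ≤ R) {x : G}
    (hx : x ∈ R) (hp : IsPGroup 2 (zpowers x)) : x ∈ L := by
  -- reduction to `x * x ∈ L`
  suffices H : ∀ x ∈ R, IsPGroup 2 (zpowers x) → x * x ∈ L → x ∈ L by
    obtain ⟨m, hm⟩ := hp ⟨x, mem_zpowers x⟩
    have hm' : x ^ 2 ^ m = 1 := congrArg Subtype.val hm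
    have h1 : ∀ j : ℕ, x ^ 2 ^ (m - j) ∈ L := by
      intro j
      induction j with
      | zero => rw [Nat.sub_zero, hm']; exact L.one_mem
      | succ j ih =>
        by_cases hj : m - j = 0
        · have : m - (j + 1) = m - j := by omega
          rw [this]; exact ih
        · refine H _ (R.pow_mem hx _) (hp.to_le (zpowers_le.mpr (pow_mem (mem_zpowers x) _))) ?_
          have e : 2 ^ (m - (j + 1)) + 2 ^ (m - (j + 1)) = 2 ^ (m - j) := by
            have : m - j = (m - (j + 1)) + 1 := by omega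
            rw [this, pow_succ]; ring
          rw [← pow_add, e]; exact ih
    have := h1 m
    simpa using this
  intro x hx hp hxx
  by_contra hxL
  obtain ⟨s, hs, hya, hyb, hyy, hyL⟩ := exists_invol hB (hRa x hx) hxL hxx hp
  set y := s⁻¹ * x with hy
  have hy1 : y ≠ 1 := fun hh => hyL (by rw [hh]; exact L.one_mem)
  have hyi : y⁻¹ = y := inv_eq_of_mul_eq_one_left hyy
  have hLn := hB.normal
  have hxa := hRa x hx
  -- `Q ≰ R`
  have hQR : ¬ Q ≤ R := by
    intro hQR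
    have hyR : y ∈ R := R.mul_mem (R.inv_mem (hQR hs)) hx
    exact hB.ne.symm (hRi y hyR hyy hy1 b hyb)
  have hS2 : Q ⊓ R = E := by
    rcases hB.eq_or_eq (S := Q ⊓ R) (le_inf hB.EQ hER) inf_le_left (by
      rintro d hd t ⟨ht1, ht2⟩
      exact ⟨hB.normQ (hB.fixD hd) ht1, hRn d (hB.fixD hd) t ht2⟩) with h1 | h1
    · exact h1
    · exact absurd (inf_eq_left.mp h1) hQR
  have hQE : Q ≠ E := by
    intro hh
    exact hQR (hh ▸ hER)
  obtain ⟨s₀, hs₀, hs₀E⟩ : ∃ s₀ ∈ Q, s₀ ∉ E := by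
    by_contra hc
    push Not at hc
    exact hQE (le_antisymm hc hB.EQ)
  -- `y` acts trivially on `Q / E`
  have hxE : ∀ t ∈ Q, x * t * x⁻¹ * t⁻¹ ∈ E := by
    intro t ht
    rw [← hS2]
    refine ⟨Q.mul_mem (hB.normQ hxa ht) (Q.inv_mem ht), ?_⟩
    have e : x * t * x⁻¹ * t⁻¹ = x * (t * x⁻¹ * t⁻¹) := by group
    rw [e]
    exact mul_mem hx (hRn t (hB.fixQ t ht) _ (inv_mem hx))
  have hyE : ∀ t ∈ Q, y * t * y⁻¹ * t⁻¹ ∈ E := by
    intro t ht
    have h1 := hxE t ht
    set e := x * t * x⁻¹ * t⁻¹ with he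
    have h2 : x * t * x⁻¹ = e * t := by rw [he]; group
    have h3 : y * t * y⁻¹ * t⁻¹ = e * (s⁻¹ * t * (s⁻¹)⁻¹ * t⁻¹) := by
      have h4 := hB.cenE e h1 s⁻¹ (inv_mem hs)
      calc y * t * y⁻¹ * t⁻¹ = s⁻¹ * (x * t * x⁻¹) * s * t⁻¹ := by rw [hy]; group
        _ = (s⁻¹ * e) * t * s * t⁻¹ := by rw [h2]; group
        _ = (e * s⁻¹) * t * s * t⁻¹ := by rw [h4]
        _ = _ := by group
    rw [h3]
    exact mul_mem h1 (hB.comE (inv_mem hs) ht)
  have hyEE : ∀ e ∈ E, y * e * y⁻¹ ∈ E := fun e he => hB.normE hya he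
  -- `y` centralises `D`
  have hyD : ∀ d ∈ D, y * d = d * y := by
    intro d hd
    have hdL := hB.DL hd
    have hda := hB.fixD hd
    have hdb := hB.fixDb hd
    have hcD : y * d * y⁻¹ * d⁻¹ ∈ D := by
      refine mul_mem ((hB.memD _).mpr ⟨hLn.conj_mem d hdL y, ?_, ?_⟩) (inv_mem hd)
      · rw [mul_smul, mul_smul, hyi, hya, hda, hya]
      · rw [mul_smul, mul_smul, hyi, hyb, hdb, hyb]
    by_contra hne
    have hc1 : y * d * y⁻¹ * d⁻¹ ≠ 1 := by
      intro hh
      apply hne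
      rw [mul_inv_eq_one, mul_inv_eq_iff_eq_mul] at hh
      exact hh
    apply hs₀E
    refine hB.srV _ hcD hc1 s₀ hs₀ ?_
    have hdi : d⁻¹ • a = a := by rw [inv_smul_eq_iff, hda]
    have hs1 : d⁻¹ * s₀ * d ∈ Q := by
      have := hB.normQ hdi hs₀
      rwa [inv_inv] at this
    set s₁ := d⁻¹ * s₀ * d with hs₁
    have h1 : y * s₁ * y⁻¹ * s₁⁻¹ ∈ E := hyE s₁ hs1
    set e₁ := y * s₁ * y⁻¹ * s₁⁻¹ with he₁
    have h2 : y⁻¹ * s₁ * y = e₁ * s₁ := by rw [he₁, hyi]; group
    have h3 : d * e₁ * d⁻¹ ∈ E := hB.normE hda h1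
    have h4 : y * (d * e₁ * d⁻¹) * y⁻¹ ∈ E := hyEE _ h3
    have h5 : y * s₀ * y⁻¹ * s₀⁻¹ ∈ E := hyE s₀ hs₀
    set e₂ := y * (d * e₁ * d⁻¹) * y⁻¹ with he₂
    set e₃ := y * s₀ * y⁻¹ * s₀⁻¹ with he₃
    have h6 : y * d * y⁻¹ * d⁻¹ * s₀ * (y * d * y⁻¹ * d⁻¹)⁻¹ = e₂ * e₃ * s₀ := by
      calc y * d * y⁻¹ * d⁻¹ * s₀ * (y * d * y⁻¹ * d⁻¹)⁻¹
          = y * d * (y⁻¹ * (d⁻¹ * s₀ * d) * y) * d⁻¹ * y⁻¹ := by group
        _ = y * d * (e₁ * s₁) * d⁻¹ * y⁻¹ := by rw [← hs₁, h2]
        _ = y * (d * e₁ * d⁻¹) * y⁻¹ * (y * (d * s₁ * d⁻¹) * y⁻¹) := by group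
        _ = e₂ * (y * s₀ * y⁻¹) := by
            rw [← he₂, hs₁]; group
        _ = e₂ * e₃ * s₀ := by rw [he₃]; group
    have h7 := hB.cenE (e₂ * e₃) (mul_mem h4 h5) s₀ hs₀
    rw [h6, h7, inv_mul_cancel_left]
    exact mul_mem h4 h5
  -- `y` centralises `E`
  have hyEc : ∀ e ∈ E, y * e = e * y := by
    obtain ⟨f, hf1, hfE, hyf⟩ : ∃ f : G, f ≠ 1 ∧ f ∈ E ∧ y * f = f * y := by
      obtain ⟨e, he, he1⟩ : ∃ e ∈ E, e ≠ 1 := by
        by_contra hcon
        push Not at hcon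
        have h1 : E = ⊥ := (Subgroup.eq_bot_iff_forall _).mpr hcon
        have h2 := hB.cardE
        rw [h1, Subgroup.card_bot] at h2
        have := hB.four_le
        omega
      have h1 := hyEE e he
      have hcomm := hB.cenE e he _ (hB.EQ h1)
      by_cases h2 : e * (y * e * y⁻¹) = 1
      · refine ⟨e, he1, he, ?_⟩
        have h3 : y * e * y⁻¹ = e := by
          have h4 : y * e * y⁻¹ = e⁻¹ := eq_inv_of_mul_eq_one_right h2
          rw [h4]
          exact inv_eq_of_mul_eq_one_left ((hB.memE e).mp he).2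
        calc y * e = y * e * y⁻¹ * y := by group
          _ = e * y := by rw [h3]
      · refine ⟨_, h2, mul_mem he h1, ?_⟩
        have h3 : y * (e * (y * e * y⁻¹)) * y⁻¹ = e * (y * e * y⁻¹) := by
          calc y * (e * (y * e * y⁻¹)) * y⁻¹ = (y * e * y⁻¹) * ((y * y) * e * (y⁻¹ * y⁻¹)) := by
                group
            _ = (y * e * y⁻¹) * e := by
                have : y⁻¹ * y⁻¹ = 1 := by rw [hyi, hyy]
                rw [hyy, this]; group
            _ = e * (y * e * y⁻¹) := hcomm.symm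
        calc y * (e * (y * e * y⁻¹)) = y * (e * (y * e * y⁻¹)) * y⁻¹ * y := by group
          _ = _ := by rw [h3]
    intro e he
    by_cases he1 : e = 1
    · rw [he1, mul_one, one_mul]
    obtain ⟨d, hd, hde⟩ := hB.transE f hfE hf1 e he he1
    have h1 := hyD d hd
    rw [← hde]
    calc y * (d * f * d⁻¹) = (y * d) * f * d⁻¹ := by group
      _ = d * (y * f) * d⁻¹ := by rw [h1]; group
      _ = d * (f * y) * d⁻¹ := by rw [hyf]
      _ = d * f * d⁻¹ * ((d * y) * d⁻¹) := by group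
      _ = d * f * d⁻¹ * ((y * d) * d⁻¹) := by rw [h1]
      _ = d * f * d⁻¹ * y := by group
  -- `C_Q(y) = E`
  set C := Q ⊓ centralizer ({y} : Set G) with hC
  have hmemC : ∀ t : G, t ∈ C ↔ t ∈ Q ∧ y * t = t * y := by
    intro t
    rw [hC, Subgroup.mem_inf, Subgroup.mem_centralizer_singleton_iff]
    exact ⟨fun hh => ⟨hh.1, hh.2.symm⟩, fun hh => ⟨hh.1, hh.2.symm⟩⟩
  have hCE : C = E := by
    rcases hB.eq_or_eq (S := C) (fun e he => (hmemC e).mpr ⟨hB.EQ he, hyEc e he⟩)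
      (fun t ht => ((hmemC t).mp ht).1) (by
        intro d hd t ht
        obtain ⟨ht1, ht2⟩ := (hmemC t).mp ht
        refine (hmemC _).mpr ⟨hB.normQ (hB.fixD hd) ht1, ?_⟩
        have h1 := hyD d hd
        calc y * (d * t * d⁻¹) = (y * d) * t * d⁻¹ := by group
          _ = d * (y * t) * d⁻¹ := by rw [h1]; group
          _ = d * (t * y) * d⁻¹ := by rw [ht2]
          _ = d * t * d⁻¹ * ((d * y) * d⁻¹) := by group
          _ = d * t * d⁻¹ * ((y * d) * d⁻¹) := by rw [h1]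
          _ = d * t * d⁻¹ * y := by group) with h1 | h1
    · exact h1
    · exfalso
      apply hy1
      apply hf
      intro c
      by_cases hca : c = a
      · rw [hca, hya]
      · obtain ⟨t, ht, rfl⟩ := hB.regQ c hca
        have h2 := ((hmemC t).mp (h1 ▸ ht)).2
        rw [smul_smul, h2, mul_smul, hyb]
  have hmemE : ∀ t : G, t ∈ E ↔ t ∈ Q ∧ y * t = t * y := by
    intro t
    constructor
    · intro ht
      exact (hmemC t).mp (hCE.ge ht)
    · intro ht
      exact hCE.le ((hmemC t).mpr ht)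
  -- the homomorphism `t ↦ [y, t]`
  let δ : Q →* E :=
    { toFun := fun t => ⟨y * t * y⁻¹ * (t : G)⁻¹, hyE t t.2⟩
      map_one' := Subtype.ext (by simp)
      map_mul' := by
        intro t u
        apply Subtype.ext
        show y * ((t * u : Q) : G) * y⁻¹ * ((t * u : Q) : G)⁻¹ =
          y * t * y⁻¹ * (t : G)⁻¹ * (y * u * y⁻¹ * (u : G)⁻¹)
        have h1 := hB.cenE _ (hyE u u.2) _ (inv_mem t.2)
        push_cast
        calc y * ((t : G) * u) * y⁻¹ * ((t : G) * u)⁻¹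
            = (y * t * y⁻¹) * ((y * u * y⁻¹ * (u : G)⁻¹) * (t : G)⁻¹) := by group
          _ = (y * t * y⁻¹) * ((t : G)⁻¹ * (y * u * y⁻¹ * (u : G)⁻¹)) := by rw [h1]
          _ = _ := by group }
  have hker : δ.ker = E.subgroupOf Q := by
    ext t
    rw [MonoidHom.mem_ker, Subgroup.mem_subgroupOf, hmemE]
    constructor
    · intro hh
      have h1 : y * t * y⁻¹ * (t : G)⁻¹ = 1 := congrArg Subtype.val hh
      rw [mul_inv_eq_one, mul_inv_eq_iff_eq_mul] at h1
      exact ⟨t.2, h1⟩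
    · rintro ⟨-, h1⟩
      apply Subtype.ext
      show y * t * y⁻¹ * (t : G)⁻¹ = 1
      rw [mul_inv_eq_one, mul_inv_eq_iff_eq_mul]
      exact h1
  have hidx : E.relIndex Q ≤ Nat.card E := by
    have h1 := Subgroup.index_ker δ
    rw [hker] at h1
    have h2 : (E.subgroupOf Q).index = E.relIndex Q := rfl
    rw [← h2, h1]
    exact Subgroup.card_le_card_group _
  have hmul := Bdr.relIndex_mul hB.EQ
  have hcE := hB.cardE
  have hcQ := hB.cardQ
  have h4 := hB.four_le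
  rcases hB.typ with h1 | ⟨h1, -, h2⟩ | ⟨h1, -, -⟩
  · -- `i = 1`
    apply hQE
    rw [h1, pow_one] at hcQ
    exact (Subgroup.eq_of_le_of_card_ge hB.EQ (by rw [hcQ, hcE])).symm
  · -- `i = 2` : `q + 1` divides `|L|`
    set H := L ⊓ centralizer ({y} : Set G) with hH
    have hmemH : ∀ t : G, t ∈ H ↔ t ∈ L ∧ t * y = y * t := by
      intro t
      rw [hH, Subgroup.mem_inf, Subgroup.mem_centralizer_singleton_iff]
    have horb : ∀ c : Ω, c ∈ MulAction.orbit H a ↔ y • c = c := by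
      intro c
      constructor
      · rintro ⟨⟨t, ht⟩, rfl⟩
        obtain ⟨-, ht2⟩ := (hmemH t).mp ht
        show y • (t • a) = t • a
        rw [smul_smul, ← ht2, mul_smul, hya]
      · intro hc
        by_cases hca : a = c
        · rw [← hca]; exact MulAction.mem_orbit_self a
        obtain ⟨d₁, hd₁, hc₁⟩ := h.exists_commute_of_mul_self hyy hya
        obtain ⟨d₂, hd₂, hc₂⟩ := h.exists_commute_of_mul_self hyy hc
        obtain ⟨t, ht, hts, -, -⟩ := h.exists_swap_mem (centralizer ({y} : Set G)) hca hd₁ hd₂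
          (Subgroup.mem_centralizer_singleton_iff.mpr hc₁.eq)
          (Subgroup.mem_centralizer_singleton_iff.mpr hc₂.eq)
        refine ⟨⟨t, (hmemH t).mpr ⟨hL t hts.1, Subgroup.mem_centralizer_singleton_iff.mp ht⟩⟩, ?_⟩
        exact hts.2
    have hfin := h.finite_points
    have hcard : Nat.card (MulAction.orbit H a) = 2 ^ k + 1 := by
      have e1 : MulAction.orbit H a = insert a ((fun e : G => e • b) '' (E : Set G)) := by
        ext c
        rw [horb]
        constructor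
        · intro hc
          by_cases hca : c = a
          · left; exact hca
          · right
            obtain ⟨t, ht, rfl⟩ := hB.regQ c hca
            refine ⟨t, ?_, rfl⟩
            rw [SetLike.mem_coe, hmemE]
            refine ⟨ht, ?_⟩
            have h5 : (t⁻¹ * (y * t * y⁻¹)) • b = b := by
              rw [mul_smul, mul_smul, mul_smul, hyi, hyb, hc, inv_smul_smul]
            have h6 := hB.freeQ _ (mul_mem (inv_mem ht) (hB.normQ hya ht)) b hB.ne.symm h5
            rw [inv_mul_eq_one] at h6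
            calc y * t = y * t * y⁻¹ * y := by group
              _ = t * y := by rw [← h6]
        · rintro (rfl | ⟨e, he, rfl⟩)
          · exact hya
          · show y • e • b = e • b
            rw [smul_smul, hyEc e he, mul_smul, hyb]
      have e2 : Nat.card (MulAction.orbit H a) = (MulAction.orbit H a).ncard :=
        Nat.card_coe_set_eq _
      rw [e2, e1, Set.ncard_insert_of_notMem]
      · rw [Set.InjOn.ncard_image]
        · rw [← Nat.card_coe_set_eq]
          exact congrArg (· + 1) hcE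
        · intro e he f hf' hef
          have h5 : (f⁻¹ * e) • b = b := by
            rw [mul_smul]
            have : e • b = f • b := hef
            rw [this, inv_smul_smul]
          have h6 := hB.freeQ _ (mul_mem (inv_mem (hB.EQ hf')) (hB.EQ he)) b hB.ne.symm h5
          rw [inv_mul_eq_one] at h6
          exact h6.symm
      · rintro ⟨e, he, hea⟩
        have hea' : e • b = a := hea
        have h5 := hB.fixQ e (hB.EQ he)
        exact hB.ne.symm (smul_left_cancel e (by rw [hea', h5]))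
    have hdvd : 2 ^ k + 1 ∣ Nat.card L := by
      rw [← hcard]
      have h5 : Nat.card (MulAction.orbit H a) ∣ Nat.card H := by
        rw [Nat.card_congr (MulAction.orbitEquivQuotientStabilizer H a)]
        exact Subgroup.index_dvd_card _
      exact h5.trans (Subgroup.card_dvd_of_le inf_le_left)
    obtain ⟨c, hc⟩ := hdvd
    rw [hB.cardL, hcQ, h1, h2] at hc
    exact arith_two h4 hc
  · -- `i = 3`
    rw [h1] at hcQ
    rw [hcE] at hidx hmul
    rw [hcQ] at hmul
    have h5 : (2 ^ k) ^ 3 ≤ 2 ^ k * 2 ^ k := by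
      rw [← hmul]; exact Nat.mul_le_mul_left _ hidx
    have h6 : 2 ^ k * 2 ^ k < (2 ^ k) ^ 3 := by
      have : 0 < 2 ^ k * 2 ^ k := by positivity
      nlinarith
    omega

end Cfsg.Agent.H23.OuterTwo
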