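import Cfsg.Agent.AschCrit.RankOneThree
import Cfsg.Agent.H23.FreeAct

/-!
# Simple rank-one set-ups: a list of facts

`q = 2 ^ k`, `|Q| = q ^ i`, `E = Ω₁(Q)`, `D = G_{ab}`.

* `Bd` : the list of facts
* `bd` : a simple rank-one set-up has them
* `Bd.eq_or_eq` : a `D`-invariant subgroup between `E` and `Q` is `E` or `Q`
-/

set_option autoImplicit false

open Cfsg

namespace Cfsg.Agent.H23.RankOneBd

open MulAction Subgroup Cfsg.Agent Cfsg.Agent.SuzukiRankOne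
  Cfsg.Agent.SuzukiRankOne.Assembly Cfsg.Agent.LieRecognition Cfsg.Agent.LieRecognition.HermHeis
  Cfsg.Agent.AschCrit.RankOneTypes Cfsg.Agent.AschCrit.RankOneCases Cfsg.Agent.AschCrit.RankOneThree

/-- The facts. -/
structure Bd {G Ω : Type*} [Group G] [MulAction G Ω] (a b : Ω) (Q E D : Subgroup G) (k i : ℕ) :
    Prop where
  ne : a ≠ b
  fixQ : ∀ s ∈ Q, s • a = a
  regQ : ∀ c : Ω, c ≠ a → ∃ s ∈ Q, s • b = c
  freeQ : ∀ s ∈ Q, ∀ c : Ω, c ≠ a → s • c = c → s = 1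
  memD : ∀ g : G, g ∈ D ↔ g • a = a ∧ g • b = b
  oddD : Odd (Nat.card D)
  commD : ∀ d ∈ D, ∀ e ∈ D, d * e = e * d
  pQ : IsPGroup 2 Q
  memQ : ∀ g : G, g • a = a → IsPGroup 2 (zpowers g) → g ∈ Q
  normQ : ∀ g : G, g • a = a → ∀ s ∈ Q, g * s * g⁻¹ ∈ Q
  memE : ∀ g : G, g ∈ E ↔ g ∈ Q ∧ g * g = 1
  cenE : ∀ e ∈ E, ∀ s ∈ Q, e * s = s * e
  sqE : ∀ s ∈ Q, s * s ∈ E
  transE : ∀ e ∈ E, e ≠ 1 → ∀ f ∈ E, f ≠ 1 → ∃ d ∈ D, d * e * d⁻¹ = f
  cardE : Nat.card E = 2 ^ k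
  two_le : 2 ≤ k
  cardQ : Nat.card Q = (2 ^ k) ^ i
  cardG : Nat.card G = Nat.card Q * Nat.card D * (Nat.card Q + 1)
  srV : ∀ d ∈ D, d ≠ 1 → ∀ s ∈ Q, s⁻¹ * (d * s * d⁻¹) ∈ E → s ∈ E
  fpf : ∃ d ∈ D, ∀ s ∈ Q, d * s = s * d → s = 1
  typ : i = 1 ∨ (i = 2 ∧ Odd k ∧ Nat.card D = 2 ^ k - 1) ∨
    (i = 3 ∧ Nat.gcd 3 (2 ^ k + 1) * Nat.card D = (2 ^ k) ^ 2 - 1 ∧
      ∃ (F : Type) (_ : Field F) (_ : Fintype F), Fintype.card F = (2 ^ k) ^ 2 ∧
        Nonempty (G ≃* Cfsg.PSU 3 F (2 ^ k)))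

theorem exists_mul_self {G : Type*} [Group G] {x : G} (hx : IsPGroup 2 (zpowers x)) (h1 : x ≠ 1) :
    ∃ n : ℕ, x ^ n ≠ 1 ∧ x ^ n * x ^ n = 1 := by
  obtain ⟨m, hm⟩ := hx ⟨x, mem_zpowers x⟩
  have hm' : x ^ 2 ^ m = 1 := congrArg Subtype.val hm
  have hex : ∃ m, x ^ 2 ^ m = 1 := ⟨m, hm'⟩
  classical
  have h2 := Nat.find_spec hex
  have h3 : Nat.find hex ≠ 0 := by
    intro h0
    rw [h0, pow_zero, pow_one] at h2
    exact h1 h2
  obtain ⟨j, hj⟩ := Nat.exists_eq_succ_of_ne_zero h3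
  refine ⟨2 ^ j, ?_, ?_⟩
  · exact Nat.find_min hex (by omega)
  · rw [← pow_add, ← two_mul, ← pow_succ']
    rw [hj] at h2
    exact h2

variable {G Ω : Type*} [Group G] [Finite G] [MulAction G Ω] {a : Ω} {t : G} {Q : Subgroup G}

theorem isPGroup_zpowers {x : G} (hQ : IsPGroup 2 Q) (hx : x ∈ Q) : IsPGroup 2 (zpowers x) :=
  hQ.to_le (zpowers_le.mpr hx)

/-- 2-elements of `G_a` lie in `Q`. -/
theorem mem_of_isPGroup (hS : IsRankOneSetup G Ω a t Q) {g : G} (hg : g • a = a)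
    (hp : IsPGroup 2 (zpowers g)) : g ∈ Q := by
  obtain ⟨q, hq, d, hd, rfl⟩ :=
    RankOneBasic.exists_mul_of_mem_stabilizer hS (mem_stabilizer_iff.mpr hg)
  -- the powers of `q d`
  have hD : stabilizer G a ⊓ stabilizer G (t • a) ≤ Subgroup.normalizer (Q : Set G) :=
    inf_le_left.trans (RankOneBasic.stabilizer_le_normalizer hS)
  have hpow : ∀ n : ℕ, ∃ r ∈ Q, (q * d) ^ n = r * d ^ n := by
    intro n
    induction n with
    | zero => exact ⟨1, Q.one_mem, by simp⟩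
    | succ n ih =>
      obtain ⟨r, hr, he⟩ := ih
      refine ⟨r * (d ^ n * q * (d ^ n)⁻¹), Q.mul_mem hr ?_, ?_⟩
      · exact (Subgroup.mem_normalizer_iff.mp (hD (Subgroup.pow_mem _ hd n)) q).mp hq
      · rw [pow_succ, he, pow_succ]; group
  obtain ⟨m, hm⟩ := hp ⟨q * d, mem_zpowers _⟩
  have hm' : (q * d) ^ 2 ^ m = 1 := congrArg Subtype.val hm
  obtain ⟨r, hr, he⟩ := hpow (2 ^ m)
  rw [hm'] at he
  have h1 : d ^ 2 ^ m ∈ Q := by
    have : d ^ 2 ^ m = r⁻¹ := eq_inv_of_mul_eq_one_right he.symm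
    rw [this]; exact Q.inv_mem hr
  have h2 : d ^ 2 ^ m ∈ Q ⊓ stabilizer G (t • a) := ⟨h1, (Subgroup.pow_mem _ hd _).2⟩
  rw [hS.inf_eq_bot, Subgroup.mem_bot] at h2
  have h3 : orderOf d ∣ 2 ^ m := orderOf_dvd_of_pow_eq_one h2
  have h4 : orderOf d ∣ Nat.card ↥(stabilizer G a ⊓ stabilizer G (t • a)) := by
    rw [← Subgroup.orderOf_mk d hd]; exact orderOf_dvd_natCard _
  have h5 : Nat.Coprime (2 ^ m) (Nat.card ↥(stabilizer G a ⊓ stabilizer G (t • a))) :=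
    Nat.Coprime.pow_left _ hS.odd_card.coprime_two_left
  have h6 : orderOf d = 1 := Nat.eq_one_of_dvd_coprimes h5 h3 h4
  rw [orderOf_eq_one_iff] at h6
  rw [h6, mul_one]; exact hq

/-- product of squares -/
theorem comm_eq_sq {H : Type*} [Group H] (x y : H) :
    x * y * x⁻¹ * y⁻¹ = (x * y) * (x * y) * ((y⁻¹ * x⁻¹ * y) * (y⁻¹ * x⁻¹ * y)) * (y⁻¹ * y⁻¹) := by
  group

section

variable [FaithfulSMul G Ω] [IsSimpleGroup G] (hS : IsRankOneSetup G Ω a t Q)
  (h2 : ∃ x y : G, x ≠ 1 ∧ y ≠ 1 ∧ x ≠ y ∧ x * x = 1 ∧ y * y = 1 ∧ x * y = y * x)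
  {k i : ℕ} (hk : 2 ≤ k) (hi1 : 1 ≤ i) (hi3 : i ≤ 3)
  (hq : Nat.card (involutionsIn (stabilizer G a : Set G)) + 1 = 2 ^ k)
  (hi : Nat.card Q = (2 ^ k) ^ i)

omit [IsSimpleGroup G] in
include hS h2 in
theorem mul_mem_E {x y : G} (hx : x ∈ Q ∧ x * x = 1) (hy : y ∈ Q ∧ y * y = 1) :
    x * y ∈ Q ∧ (x * y) * (x * y) = 1 := by
  by_cases hx1 : x = 1
  · rw [hx1, one_mul]; exact hy
  by_cases hy1 : y = 1
  · rw [hy1, mul_one]; exact hx
  refine ⟨Q.mul_mem hx.1 hy.1, ?_⟩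
  have h3 := ((S1130.result hS h2).1 x ⟨hS.le hx.1, hx1, hx.2⟩).2 y hy.1
  calc x * y * (x * y) = x * (y * x) * y := by group
    _ = x * (x * y) * y := by rw [h3]
    _ = (x * x) * (y * y) := by group
    _ = 1 := by rw [hx.2, hy.2, one_mul]

/-- `E = Ω₁(Q)` -/
def Esub (hS : IsRankOneSetup G Ω a t Q)
    (h2 : ∃ x y : G, x ≠ 1 ∧ y ≠ 1 ∧ x ≠ y ∧ x * x = 1 ∧ y * y = 1 ∧ x * y = y * x) :
    Subgroup G where
  carrier := {x | x ∈ Q ∧ x * x = 1}
  mul_mem' := fun hx hy => mul_mem_E hS h2 hx hy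
  one_mem' := ⟨Q.one_mem, mul_one 1⟩
  inv_mem' := by
    rintro x ⟨hx, hxx⟩
    refine ⟨Q.inv_mem hx, ?_⟩
    rw [← mul_inv_rev, hxx, inv_one]

omit [IsSimpleGroup G] in
theorem mem_Esub {x : G} : x ∈ Esub hS h2 ↔ x ∈ Q ∧ x * x = 1 := Iff.rfl

omit [IsSimpleGroup G] in
include hS h2 in
theorem cenE {e : G} (he : e ∈ Esub hS h2) {s : G} (hs : s ∈ Q) : e * s = s * e := by
  by_cases h1 : e = 1
  · rw [h1, one_mul, mul_one]
  · exact ((S1130.result hS h2).1 e ⟨hS.le he.1, h1, he.2⟩).2 s hs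

omit [IsSimpleGroup G] in
include hq in
theorem cardE : Nat.card (Esub hS h2) = 2 ^ k := by
  have h1 : ((Esub hS h2 : Subgroup G) : Set G) =
      insert 1 (involutionsIn (stabilizer G a : Set G)) := by
    ext x
    constructor
    · rintro ⟨hx, hxx⟩
      by_cases h1 : x = 1
      · left; exact h1
      · right; exact ⟨hS.le hx, h1, hxx⟩
    · rintro (rfl | ⟨hx, -, hxx⟩)
      · exact (Esub hS h2).one_mem
      · exact ⟨RankOneBasic.mem_of_mul_self hS hx hxx, hxx⟩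
  have h3 : Nat.card (Esub hS h2) = ((Esub hS h2 : Subgroup G) : Set G).ncard :=
    Nat.card_coe_set_eq _
  rw [h3, h1, Set.ncard_insert_of_notMem, ← Nat.card_coe_set_eq, hq]
  rintro ⟨-, h, -⟩
  exact h rfl

include hS h2 hk hi1 hi3 hq hi in
theorem sq_sq {x : G} (hx : x ∈ Q) : (x * x) * (x * x) = 1 := by
  rcases (show i = 1 ∨ i = 2 ∨ i = 3 by omega) with h | h | h
  · rw [(one_iff hS h2 hq hi hk).mp h x hx, one_mul]
  · exact (type_two' hS h2 hq hi hk h).2.2.1 x hx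
  · exact (three hS h2 hk hq hi h).sq_sq x hx

include hS h2 hk hi1 hi3 hq hi in
theorem isCyclicD : IsCyclic ↥(stabilizer G a ⊓ stabilizer G (t • a)) := by
  rcases (show i ≤ 2 ∨ i = 3 by omega) with h | h
  · exact isCyclic_of_le_two hS h2 hq hi hk h
  · exact (three hS h2 hk hq hi h).isCyclic

include hS h2 hk hi1 hi3 hq hi in
theorem commD {d e : G} (hd : d ∈ stabilizer G a ⊓ stabilizer G (t • a))
    (he : e ∈ stabilizer G a ⊓ stabilizer G (t • a)) : d * e = e * d := by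
  have := isCyclicD hS h2 hk hi1 hi3 hq hi
  let _ : CommGroup ↥(stabilizer G a ⊓ stabilizer G (t • a)) := IsCyclic.commGroup
  exact congrArg Subtype.val (mul_comm (⟨d, hd⟩ : ↥(stabilizer G a ⊓ stabilizer G (t • a))) ⟨e, he⟩)

include hS h2 hk hi1 hi3 hq hi in
/-- an element of `D` commuting with an involution of `Q` commutes with all of them -/
theorem comm_all {d : G} (hd : d ∈ stabilizer G a ⊓ stabilizer G (t • a)) {f : G}
    (hf : f ∈ Esub hS h2) (hf1 : f ≠ 1) (hdf : d * f = f * d) {e : G} (he : e ∈ Esub hS h2) :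
    d * e = e * d := by
  by_cases he1 : e = 1
  · rw [he1, one_mul, mul_one]
  obtain ⟨c, hc, hce⟩ := exists_conj hS (s := f) (s' := e) ⟨hS.le hf.1, hf1, hf.2⟩
    ⟨hS.le he.1, he1, he.2⟩
  have h1 := commD hS h2 hk hi1 hi3 hq hi hd hc
  rw [← hce]
  calc d * (c * f * c⁻¹) = (d * c) * f * c⁻¹ := by group
    _ = c * (d * f) * c⁻¹ := by rw [h1]; group
    _ = c * (f * d) * c⁻¹ := by rw [hdf]
    _ = c * f * c⁻¹ * ((c * d) * c⁻¹) := by group
    _ = c * f * c⁻¹ * ((d * c) * c⁻¹) := by rw [h1]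
    _ = c * f * c⁻¹ * d := by group

include hS h2 hk hi1 hi3 hq hi in
/-- an element of `D` other than 1 commuting with an involution of `Q` centralises only `E` -/
theorem fix_of_comm {d : G} (hd : d ∈ stabilizer G a ⊓ stabilizer G (t • a)) (hd1 : d ≠ 1) {f : G}
    (hf : f ∈ Esub hS h2) (hf1 : f ≠ 1) (hdf : d * f = f * d) {x : G} (hx : x ∈ Q)
    (hdx : d * x = x * d) : x * x = 1 := by
  rcases (show i ≤ 2 ∨ i = 3 by omega) with h | h
  · exfalso
    apply hd1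
    have hb := mem_stabilizer_iff.mp hd.2
    have hb1 := RankOneBasic.t_smul_ne hS
    refine eq_one_of_le_two hS h2 hq hi hk h (b := a) (c := t • a) (d := f • t • a) hb1.symm ?_ ?_
      (mem_stabilizer_iff.mp hd.1) hb ?_
    · exact (RankOneBasic.smul_ne_of_mem (hS.le hf.1) hb1).symm
    · intro hh
      exact hf1 (RankOneBasic.eq_one_of_smul_eq hS hf.1 hb1 hh.symm)
    · rw [smul_smul, hdf, mul_smul, hb]
  · exact (three hS h2 hk hq hi h).sq_of_commute d hd hd1 f ⟨hS.le hf.1, hf1, hf.2⟩ hdf.symm.symm x hx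
      hdx

include hS h2 hk hi1 hi3 hq hi in
/-- an element of `D` moving an involution of `Q` has no fixed points on `Q` -/
theorem fpf_of {d : G} (hd : d ∈ stabilizer G a ⊓ stabilizer G (t • a)) {f : G}
    (hf : f ∈ Esub hS h2) (hdf : d * f ≠ f * d) {s : G} (hs : s ∈ Q) (hQ2 : IsPGroup 2 Q)
    (hds : d * s = s * d) : s = 1 := by
  by_contra hs1
  obtain ⟨n, hn1, hn2⟩ := exists_mul_self (isPGroup_zpowers hQ2 hs) hs1
  refine hdf (comm_all hS h2 hk hi1 hi3 hq hi hd (f := s ^ n) ⟨Q.pow_mem hs n, hn2⟩ hn1 ?_ hf)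
  exact (show Commute d (s ^ n) from (show Commute d s from hds).pow_right n).eq

include hk hi1 hi3 hq hi in
theorem srV (hQ2 : IsPGroup 2 Q) {d : G} (hd : d ∈ stabilizer G a ⊓ stabilizer G (t • a))
    (hd1 : d ≠ 1) {s : G} (hs : s ∈ Q) (hse : s⁻¹ * (d * s * d⁻¹) ∈ Esub hS h2) :
    s ∈ Esub hS h2 := by
  have hnorm : ∀ x ∈ Q, d * x * d⁻¹ ∈ Q := fun x hx => hS.conj_mem d hd.1 x hx
  have hnormE : ∀ x ∈ Esub hS h2, d * x * d⁻¹ ∈ Esub hS h2 := by
    rintro x ⟨hx, hxx⟩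
    refine ⟨hnorm x hx, ?_⟩
    calc d * x * d⁻¹ * (d * x * d⁻¹) = d * (x * x) * d⁻¹ := by group
      _ = 1 := by rw [hxx]; group
  set e := s⁻¹ * (d * s * d⁻¹) with he
  have hds : d * s * d⁻¹ = s * e := by rw [he]; group
  by_cases hc : ∃ f ∈ Esub hS h2, f ≠ 1 ∧ d * f = f * d
  · obtain ⟨f, hf, hf1, hdf⟩ := hc
    have hde := comm_all hS h2 hk hi1 hi3 hq hi hd hf hf1 hdf hse
    -- `d ^ m s d ^ -m = s e ^ m`
    have hpow : ∀ m : ℕ, d ^ m * s * (d ^ m)⁻¹ = s * e ^ m := by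
      intro m
      induction m with
      | zero => simp
      | succ m ih =>
        have h3 : Commute d (e ^ m) := (show Commute d e from hde).pow_right m
        calc d ^ (m + 1) * s * (d ^ (m + 1))⁻¹ = d * (d ^ m * s * (d ^ m)⁻¹) * d⁻¹ := by
              rw [pow_succ']; group
          _ = d * (s * e ^ m) * d⁻¹ := by rw [ih]
          _ = (d * s * d⁻¹) * (d * e ^ m * d⁻¹) := by group
          _ = s * e * e ^ m := by rw [hds, h3.eq]; group
          _ = s * e ^ (m + 1) := by rw [pow_succ']; group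
    have h3 := hpow (orderOf d)
    rw [pow_orderOf_eq_one] at h3
    have h4 : e ^ orderOf d = 1 := by simpa using h3.symm
    have h5 : e ^ 2 = 1 := by rw [pow_two]; exact hse.2
    have hodd : Odd (orderOf d) := by
      have h6 : orderOf d ∣ Nat.card ↥(stabilizer G a ⊓ stabilizer G (t • a)) := by
        rw [← Subgroup.orderOf_mk d hd]; exact orderOf_dvd_natCard _
      exact hS.odd_card.of_dvd_nat h6
    have h6 : e = 1 := by
      obtain ⟨j, hj⟩ := hodd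
      rw [hj, pow_add, pow_mul, h5, one_pow, one_mul, pow_one] at h4
      exact h4
    rw [h6, mul_one] at hds
    have h7 : d * s = s * d := by
      calc d * s = d * s * d⁻¹ * d := by group
        _ = s * d := by rw [hds]
    exact ⟨hs, fix_of_comm hS h2 hk hi1 hi3 hq hi hd hd1 hf hf1 hdf hs h7⟩
  · push Not at hc
    -- the map `u ↦ u⁻¹ d u d⁻¹` of `E` is bijective
    have hinj : Function.Injective (fun u : Esub hS h2 =>
        (⟨(u : G)⁻¹ * (d * u * d⁻¹), mul_mem (inv_mem u.2) (hnormE u u.2)⟩ : Esub hS h2)) := by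
      rintro ⟨u, hu⟩ ⟨v, hv⟩ huv
      have h3 : u⁻¹ * (d * u * d⁻¹) = v⁻¹ * (d * v * d⁻¹) := congrArg Subtype.val huv
      apply Subtype.ext
      show u = v
      by_contra hne
      have hw : v * u⁻¹ ∈ Esub hS h2 := mul_mem hv (inv_mem hu)
      refine hc _ hw (fun hh => hne (mul_inv_eq_one.mp hh).symm) ?_
      have h4 : v * u⁻¹ * (d * u * d⁻¹) = d * v * d⁻¹ := by
        rw [mul_assoc, h3]; group
      calc d * (v * u⁻¹) = (d * v * d⁻¹) * d * u⁻¹ := by group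
        _ = (v * u⁻¹ * (d * u * d⁻¹)) * d * u⁻¹ := by rw [h4]
        _ = v * u⁻¹ * d := by group
    have hsurj := Finite.surjective_of_injective hinj
    obtain ⟨⟨u, hu⟩, hue⟩ := hsurj ⟨e⁻¹, inv_mem hse⟩
    have h3 : u⁻¹ * (d * u * d⁻¹) = e⁻¹ := congrArg Subtype.val hue
    -- `s u` commutes with `d`
    have h4 : d * (s * u) * d⁻¹ = s * u := by
      have h5 : d * u * d⁻¹ = u * e⁻¹ := by rw [← h3]; group
      have h6 := cenE hS h2 hse hu.1
      calc d * (s * u) * d⁻¹ = (d * s * d⁻¹) * (d * u * d⁻¹) := by group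
        _ = s * (e * u) * e⁻¹ := by rw [hds, h5]; group
        _ = s * (u * e) * e⁻¹ := by rw [h6]
        _ = s * u := by group
    have h5 : d * (s * u) = s * u * d := by
      calc d * (s * u) = d * (s * u) * d⁻¹ * d := by group
        _ = s * u * d := by rw [h4]
    have h6 : s * u = 1 := by
      by_contra hs1
      have hsu : s * u ∈ Q := Q.mul_mem hs hu.1
      obtain ⟨n, hn1, hn2⟩ := exists_mul_self (isPGroup_zpowers hQ2 hsu) hs1
      exact hc _ ⟨Q.pow_mem hsu n, hn2⟩ hn1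
        (show Commute d ((s * u) ^ n) from (show Commute d (s * u) from h5).pow_right n).eq
    have h7 : s = u⁻¹ := eq_inv_of_mul_eq_one_left h6
    rw [h7]; exact inv_mem hu

include hk hi1 hi3 hq hi in
/-- a simple rank-one set-up has the listed facts -/
theorem bd (hQ2 : IsPGroup 2 Q) :
    Bd a (t • a) Q (Esub hS h2) (stabilizer G a ⊓ stabilizer G (t • a)) k i where
  ne := (RankOneBasic.t_smul_ne hS).symm
  fixQ := fun s hs => mem_stabilizer_iff.mp (hS.le hs)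
  regQ := fun c hc => RankOneBasic.exists_smul_t_smul hS hc
  freeQ := fun s hs c hc h => RankOneBasic.eq_one_of_smul_eq hS hs hc h
  memD := fun g => Iff.rfl
  oddD := hS.odd_card
  commD := fun d hd e he => commD hS h2 hk hi1 hi3 hq hi hd he
  pQ := hQ2
  memQ := fun g hg hp => mem_of_isPGroup hS hg hp
  normQ := fun g hg s hs => hS.conj_mem g hg s hs
  memE := fun g => Iff.rfl
  cenE := fun e he s hs => cenE hS h2 he hs
  sqE := fun s hs => ⟨Q.mul_mem hs hs, sq_sq hS h2 hk hi1 hi3 hq hi hs⟩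
  transE := fun e he he1 f hf hf1 => exists_conj hS ⟨hS.le he.1, he1, he.2⟩ ⟨hS.le hf.1, hf1, hf.2⟩
  cardE := cardE hS h2 hq
  two_le := hk
  cardQ := hi
  cardG := card_eq hS
  srV := fun d hd hd1 s hs hse => srV hS h2 hk hi1 hi3 hq hi hQ2 hd hd1 hs hse
  fpf := by
    have hc := cardE hS h2 hq
    have h4 : 4 ≤ 2 ^ k := by
      calc 4 = 2 ^ 2 := rfl
        _ ≤ 2 ^ k := Nat.pow_le_pow_right (by norm_num) hk
    -- two different involutions
    obtain ⟨e, he, he1⟩ : ∃ e ∈ Esub hS h2, e ≠ 1 := by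
      by_contra hcon
      push Not at hcon
      have : Esub hS h2 = ⊥ := (Subgroup.eq_bot_iff_forall _).mpr hcon
      rw [this, Subgroup.card_bot] at hc
      omega
    obtain ⟨f, hf, hf1, hfe⟩ : ∃ f ∈ Esub hS h2, f ≠ 1 ∧ f ≠ e := by
      by_contra hcon
      push Not at hcon
      have hle : Esub hS h2 ≤ zpowers e := by
        intro x hx
        by_cases hx1 : x = 1
        · rw [hx1]; exact one_mem _
        · rw [hcon x hx hx1]; exact mem_zpowers e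
      have h5 := Subgroup.card_le_of_le hle
      rw [hc, Nat.card_zpowers, orderOf_eq_prime (p := 2) (by rw [pow_two]; exact he.2) he1] at h5
      omega
    obtain ⟨d, hd, hde⟩ := exists_conj hS (s := e) (s' := f) ⟨hS.le he.1, he1, he.2⟩
      ⟨hS.le hf.1, hf1, hf.2⟩
    refine ⟨d, hd, fun s hs hds => fpf_of hS h2 hk hi1 hi3 hq hi hd he ?_ hs hQ2 hds⟩
    intro hh
    apply hfe
    rw [← hde, hh]; group
  typ := by
    rcases (show i = 1 ∨ i = 2 ∨ i = 3 by omega) with h | h | h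
    · exact Or.inl h
    · have := type_two' hS h2 hq hi hk h
      exact Or.inr (Or.inl ⟨h, this.1, this.2.2.2⟩)
    · have := three hS h2 hk hq hi h
      exact Or.inr (Or.inr ⟨h, this.card, this.iso⟩)

end

end Cfsg.Agent.H23.RankOneBd
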