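import Mathlib
import Cfsg.Agent.Transfer.ThompsonTransfer
import Cfsg.Agent.Transfer.Residual

/-!
# The sign of a semiregular element

An element `c` of order `2 ^ k > 1` of a finite group `G`, no nontrivial power of which is conjugate
into `T`, is an odd permutation of `G ⧸ T` if the index of `T` is `2 ^ k` times an odd number.
-/

set_option autoImplicit false

namespace Cfsg.Agent.H23.SemiregSign

open Equiv.Perm

theorem sign_semiregular {α : Type*} [Fintype α] [DecidableEq α] (σ : Equiv.Perm α) {k m : ℕ}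
    (hk : 1 ≤ k) (hord : σ ^ 2 ^ k = 1) (hsemi : ∀ (x : α) (n : ℕ), (σ ^ n) x = x → 2 ^ k ∣ n)
    (hm : Odd m) (hcard : Fintype.card α = 2 ^ k * m) : sign σ = -1 := by
  have hall : ∀ n ∈ σ.cycleType, n = 2 ^ k := by
    intro n hn
    have h1 : n ∣ 2 ^ k := (dvd_of_mem_cycleType hn).trans (orderOf_dvd_of_pow_eq_one hord)
    rw [mem_cycleType_iff] at hn
    obtain ⟨c, τ, rfl, hd, hc, hn⟩ := hn
    have hne : c.support.Nonempty := by
      rw [← Finset.card_pos, hn]
      exact Nat.pos_of_dvd_of_pos h1 (by positivity)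
    obtain ⟨x, hx⟩ := hne
    have h2 : ((c * τ) ^ n) x = x := by
      rw [hd.commute.mul_pow, Equiv.Perm.mul_apply]
      have h3 : (τ ^ n) x = x := by
        apply Equiv.Perm.pow_apply_eq_self_of_apply_eq_self
        have h4 := hd x
        rcases h4 with h4 | h4
        · exact absurd h4 (Equiv.Perm.mem_support.mp hx)
        · exact h4
      rw [h3, ← hn, ← hc.orderOf, pow_orderOf_eq_one]
      rfl
    exact Nat.dvd_antisymm h1 (hsemi x n h2)
  have hrep : σ.cycleType = Multiset.replicate σ.cycleType.card (2 ^ k) :=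
    Multiset.eq_replicate_card.mpr hall
  have hpos : 0 < 2 ^ k := by positivity
  rw [sign_of_cycleType_eq_replicate hpos hrep]
  have hev : ¬ Odd (2 ^ k) := by
    rw [Nat.not_odd_iff_even]
    exact (Nat.even_pow.mpr ⟨even_two, by omega⟩)
  rw [if_neg hev]
  have hfix : Fintype.card (Function.fixedPoints σ) = 0 := by
    rw [Fintype.card_eq_zero_iff]
    constructor
    rintro ⟨x, hx⟩
    have h1 := hsemi x 1 (by rw [pow_one]; exact hx)
    have h2 : 2 ^ 1 ∣ 1 := (pow_dvd_pow 2 hk).trans h1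
    norm_num at h2
  rw [hfix, Nat.sub_zero, hcard, Nat.mul_div_cancel_left _ hpos]
  exact hm.neg_one_pow

/-- `c` of order `2 ^ k > 1`, no nontrivial power of it is conjugate into `T`: `c` is an odd permutation
of `G ⧸ T`. -/
theorem exists_hom_neg_one {G : Type*} [Group G] [Finite G] (T : Subgroup G) {k m : ℕ} (hk : 1 ≤ k)
    (hT : T.index = 2 ^ k * m) (hm : Odd m) (c : G) (hc : orderOf c = 2 ^ k)
    (h : ∀ (g : G) (n : ℕ), g * c ^ n * g⁻¹ ∈ T → c ^ n = 1) : ∃ f : G →* ℤˣ, f c = -1 := by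
  classical
  have : Finite (G ⧸ T) := inferInstance
  have : Fintype (G ⧸ T) := Fintype.ofFinite _
  refine ⟨(Equiv.Perm.sign).comp (MulAction.toPermHom G (G ⧸ T)), ?_⟩
  show sign (MulAction.toPermHom G (G ⧸ T) c) = -1
  refine sign_semiregular _ hk ?_ ?_ hm ?_
  · rw [← map_pow, ← hc, pow_orderOf_eq_one, map_one]
  · intro x n
    refine QuotientGroup.induction_on x ?_
    intro g hg
    rw [← map_pow] at hg
    have hg' : (c ^ n) • (g : G ⧸ T) = (g : G ⧸ T) := hg
    have h3 : ((c ^ n * g : G) : G ⧸ T) = (g : G ⧸ T) := hg'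
    have h4 := QuotientGroup.eq.1 h3
    have h5 : g⁻¹ * c ^ n * (g⁻¹)⁻¹ ∈ T := by
      have h6 := T.inv_mem h4
      have h7 : ((c ^ n * g)⁻¹ * g)⁻¹ = g⁻¹ * c ^ n * (g⁻¹)⁻¹ := by group
      rwa [h7] at h6
    rw [← hc]
    exact orderOf_dvd_of_pow_eq_one (h _ _ h5)
  · rw [← Nat.card_eq_fintype_card, ← Subgroup.index_eq_card, hT]

end Cfsg.Agent.H23.SemiregSign
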