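import Cfsg.Agent.H23.CentralKer
import Cfsg.Agent.H23.OuterTwo

/-!
# The involutions of the normal closure of `R` are not bad

`TS G Ω z a R` : the involutions of the normal closure of `R` fix at most one point.
-/

set_option autoImplicit false

universe u

open Subgroup

namespace Cfsg.Agent.H23.CentralKer.TS

open Cfsg MulAction
open Cfsg.Agent.TwoFusion.StronglyEmbeddedBasic Cfsg.Agent.AschCrit.Basic
open Cfsg.Agent.AschCrit.Basic.Setup Cfsg.Agent.AschCrit.Closed Cfsg.Agent.AschCrit.Descent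
open Cfsg.Agent.AschCrit.NonIso Cfsg.Agent.AschCrit.InductFaithful
open Cfsg.Agent.AschCrit.InductAct Cfsg.Agent.AschCrit.BGroup Cfsg.Agent.AschCrit.Induct
open Cfsg.Agent.H23.AschKer Cfsg.Agent.H23.AschBad Cfsg.Agent.H23.BD
open scoped commutatorElement

variable {G Ω : Type u} [Group G] [Finite G] [MulAction G Ω] {z : G} {a b : Ω} {R : Subgroup G}
  {Q E D : Subgroup (Im G Ω)} {k i : ℕ}

/-- the image of a 2-element of `R` lies in `Q` -/
theorem pr_mem_Q (h : TS G Ω z a R) (hB : Bdr a b (L (pr G Ω z)) Q E D k i) {r : G} (hr : r ∈ R)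
    (hp : IsPGroup 2 (zpowers r)) : pr G Ω r ∈ Q := by
  have hpa : pr G Ω r • a = a := h.Ra r hr
  have hpp : IsPGroup 2 (zpowers (pr G Ω r)) := by
    rw [← MonoidHom.map_zpowers]; exact hp.map _
  refine hB.memQ _ ?_ hpa hpp
  refine Cfsg.Agent.H23.OuterTwo.mem_of_two (R := R.map (pr G Ω)) (setup_im h.setup) faithful_im hB
    (fun d hd => mem_L hd) ?_ ?_ ?_ ?_ ⟨r, hr, rfl⟩ hpp
  · rintro _ ⟨s, hs, rfl⟩
    exact h.Ra s hs
  · rintro g hg _ ⟨s, hs, rfl⟩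
    obtain ⟨γ, rfl⟩ := pr_surjective g
    exact ⟨γ * s * γ⁻¹, h.Rn γ hg s hs, by rw [map_mul, map_mul, map_inv]⟩
  · rintro _ ⟨s, hs, rfl⟩ hss hs1 c hc
    refine h.Ri s hs ?_ ?_ c hc
    · apply h.R_inj (R.mul_mem hs hs) R.one_mem
      rw [map_mul, map_one]; exact hss
    · rintro rfl
      exact hs1 (map_one _)
  · intro e he
    obtain ⟨s, hs, -, hse⟩ := h.exists_lift_E hB he
    exact ⟨s, hs, hse⟩

/-- an element of `R` mapping into `Q` lies in `[X, X]` -/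
theorem mem_commutator_of (h : TS G Ω z a R) (hB : Bdr a b (L (pr G Ω z)) Q E D k i) {t : G}
    (ht : t ∈ R) (htQ : pr G Ω t ∈ Q) :
    t ∈ ⁅normalClosure ({z} : Set G), normalClosure ({z} : Set G)⁆ := by
  set L₁ := ⁅normalClosure ({z} : Set G), normalClosure ({z} : Set G)⁆ with hL₁
  have hL₁n : L₁.Normal := inferInstance
  obtain ⟨d, hd, hdf⟩ := hB.fpf
  obtain ⟨δ, hδ, hδd⟩ := exists_lift' hB (hB.DL hd)
  have hda := hB.fixD hd
  have hδa : δ • a = a := by rw [← pr_smul, hδd]; exact hda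
  let T : Subgroup G := R ⊓ Q.comap (pr G Ω)
  have hT : ∀ x : G, x ∈ T ↔ x ∈ R ∧ pr G Ω x ∈ Q := fun x => Iff.rfl
  have hTc : ∀ x ∈ T, δ * x * δ⁻¹ ∈ T := by
    intro x hx
    refine (hT _).mpr ⟨h.Rn δ hδa x ((hT x).mp hx).1, ?_⟩
    rw [map_mul, map_mul, map_inv, hδd]
    exact hB.normQ hda ((hT x).mp hx).2
  let f : T → T := fun x => ⟨(x : G)⁻¹ * (δ * x * δ⁻¹), T.mul_mem (T.inv_mem x.2) (hTc x x.2)⟩
  have hf : Function.Injective f := by
    rintro ⟨x, hx⟩ ⟨y, hy⟩ hxy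
    have h1 : x⁻¹ * (δ * x * δ⁻¹) = y⁻¹ * (δ * y * δ⁻¹) := congrArg Subtype.val hxy
    have h2 : δ * (y * x⁻¹) = (y * x⁻¹) * δ := by
      have h3 : δ * x * δ⁻¹ = x * (y⁻¹ * (δ * y * δ⁻¹)) := by rw [← h1]; group
      calc δ * (y * x⁻¹) = (δ * y * δ⁻¹) * (δ * x * δ⁻¹)⁻¹ * δ := by group
        _ = (y * x⁻¹) * δ := by rw [h3]; group
    have h4 : y * x⁻¹ ∈ T := T.mul_mem hy (T.inv_mem hx)
    have h5 : pr G Ω (y * x⁻¹) = 1 := by
      apply hdf _ ((hT _).mp h4).2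
      rw [← hδd, ← map_mul, ← map_mul, h2]
    have h6 : y * x⁻¹ = 1 := h.Rk _ ((hT _).mp h4).1 (pr_eq_one_iff.mp h5)
    exact Subtype.ext (mul_inv_eq_one.mp h6).symm
  obtain ⟨⟨x, hx⟩, hxt⟩ := (Finite.surjective_of_injective hf) ⟨t, (hT t).mpr ⟨ht, htQ⟩⟩
  have h1 : x⁻¹ * (δ * x * δ⁻¹) = t := congrArg Subtype.val hxt
  rw [← h1]
  have e : x⁻¹ * (δ * x * δ⁻¹) = (x⁻¹ * δ * x) * δ⁻¹ := by group
  rw [e]
  refine L₁.mul_mem ?_ (L₁.inv_mem hδ)
  have := hL₁n.conj_mem δ hδ x⁻¹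
  rwa [inv_inv] at this

/-- `[X, X]` is transitive -/
theorem exists_mem_commutator (h : TS G Ω z a R) (hB : Bdr a b (L (pr G Ω z)) Q E D k i) (c : Ω) :
    ∃ l ∈ ⁅normalClosure ({z} : Set G), normalClosure ({z} : Set G)⁆, l • a = c := by
  by_cases hac : a = c
  · exact ⟨1, one_mem _, by rw [one_smul, hac]⟩
  obtain ⟨g, hg⟩ := h.setup.trans a c
  have h1 : IsConj z (g * z * g⁻¹) := isConj_iff.mpr ⟨g, rfl⟩
  have h2 : (g * z * g⁻¹) • c = c := by
    rw [← hg, mul_smul, mul_smul, inv_smul_smul, h.fa]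
  obtain ⟨x, -, hx, -, -, hxa, -⟩ := h.setup.exists_swap (IsConj.refl z) h1 h.fa h2 hac
  have h3 : x ∈ normalClosure ({z} : Set G) := by
    obtain ⟨γ, rfl⟩ := isConj_iff.mp hx
    exact normalClosure_normal.conj_mem z (subset_normalClosure (Set.mem_singleton z)) γ
  obtain ⟨l, hl, hlx⟩ := exists_lift' hB (pr_mem (z := z) h3)
  exact ⟨l, hl, by rw [← pr_smul, hlx]; exact hxa⟩

/-- the normal closure of `R` -/
theorem normalClosure_le (h : TS G Ω z a R) (hB : Bdr a b (L (pr G Ω z)) Q E D k i) :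
    normalClosure (R : Set G) ≤
      R ⊔ ⁅normalClosure ({z} : Set G), normalClosure ({z} : Set G)⁆ := by
  set L₁ := ⁅normalClosure ({z} : Set G), normalClosure ({z} : Set G)⁆ with hL₁
  have hL₁n : L₁.Normal := inferInstance
  rw [normalClosure, closure_le]
  intro x hx
  rw [Group.mem_conjugatesOfSet_iff] at hx
  obtain ⟨r, hr, hrx⟩ := hx
  obtain ⟨w, rfl⟩ := isConj_iff.mp hrx
  obtain ⟨l, hl, hla⟩ := h.exists_mem_commutator hB (w • a)
  have hga : (l⁻¹ * w) • a = a := by rw [mul_smul, ← hla, inv_smul_smul]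
  have h1 := h.Rn _ hga r hr
  set r' := l⁻¹ * w * r * (l⁻¹ * w)⁻¹ with hr'
  have e : w * r * w⁻¹ = (l * (r' * l⁻¹ * r'⁻¹)) * r' := by
    rw [hr']; group
  rw [SetLike.mem_coe, e]
  refine mul_mem (mem_sup_right (L₁.mul_mem hl (hL₁n.conj_mem _ (L₁.inv_mem hl) r')))
    (mem_sup_left h1)

/-- **The involutions of the normal closure of `R` are not bad.** -/
theorem not_bad (hN : ∀ N : ℕ, NoBadBelow.{u} N)
    (hBe : ∀ (X : Type u) [Group X] [Finite X], Cfsg.Agent.StrongEmb.Split.BenderHolds X)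
    (h : TS G Ω z a R) {v : G} (hv : v ∈ normalClosure (R : Set G)) : ¬ Bad Ω v := by
  intro hbad
  obtain ⟨b, Q, E, D, k, i, hB⟩ :=
    Cfsg.Agent.H23.BdrEx.exists_bdr hN hBe h.setup h.nonIso a
  set L₁ := ⁅normalClosure ({z} : Set G), normalClosure ({z} : Set G)⁆ with hL₁
  have hL₁n : L₁.Normal := inferInstance
  have hvv := hbad.mul_self
  suffices H : v ∈ L₁ by
    have h1 := mem_ker_of_bad hN h.setup h.nonIso (Subgroup.commutator_le_self _ H) hbad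
    have h2 := h.eq_one_of_commutator hB h1 H
    have h3 := hbad.1
    rw [h2, orderOf_one] at h3
    exact absurd h3 (by norm_num)
  have hmem : v ∈ ((R ⊔ L₁ : Subgroup G) : Set G) := h.normalClosure_le hB hv
  rw [Subgroup.mul_normal] at hmem
  obtain ⟨q, hq, l, hl, hql⟩ := hmem
  have hq' : q ∈ R := hq
  have hl' : l ∈ L₁ := hl
  have hql' : q * l = v := hql
  have hqq : q ^ 2 ∈ L₁ := by
    have h0 : q * l * (q * l) = 1 := by rw [hql', hvv]
    have e : q ^ 2 = (q * l⁻¹ * q⁻¹) * l⁻¹ := by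
      have e1 : q = l⁻¹ * q⁻¹ * l⁻¹ := by
        have e2 : q * (l * q * l) = 1 := by rw [← h0]; group
        have e3 : l * q * l = q⁻¹ := (inv_eq_of_mul_eq_one_right e2).symm
        rw [← e3]; group
      calc q ^ 2 = q * q := pow_two q
        _ = q * (l⁻¹ * q⁻¹ * l⁻¹) := by rw [← e1]
        _ = _ := by group
    rw [e]
    exact L₁.mul_mem (hL₁n.conj_mem _ (L₁.inv_mem hl') q) (L₁.inv_mem hl')
  -- the 2-part of `q`
  obtain ⟨s, m, hm, hsm⟩ := Nat.exists_eq_two_pow_mul_odd (n := orderOf q) (orderOf_pos q).ne'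
  have h1 : IsPGroup 2 (zpowers (q ^ m)) := by
    rintro ⟨x, hx⟩
    obtain ⟨n, rfl⟩ := mem_zpowers_iff.mp hx
    refine ⟨s, Subtype.ext ?_⟩
    show ((q ^ m) ^ n) ^ 2 ^ s = 1
    rw [← zpow_natCast, zpow_comm, zpow_natCast, ← pow_mul, mul_comm, ← hsm, pow_orderOf_eq_one,
      one_zpow]
  have h2 : q ^ m ∈ L₁ := by
    apply h.mem_commutator_of hB (R.pow_mem hq' m)
    exact h.pr_mem_Q hB (R.pow_mem hq' m) h1
  have h3 : q ∈ L₁ := by
    obtain ⟨j, hj⟩ := hm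
    have e : q = q ^ m * ((q ^ 2) ^ j)⁻¹ := by
      rw [hj, pow_succ', pow_mul]; group
    rw [e]
    exact L₁.mul_mem h2 (L₁.inv_mem (L₁.pow_mem hqq j))
  rw [← hql']
  exact L₁.mul_mem h3 hl'

end Cfsg.Agent.H23.CentralKer.TS
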