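import Mathlib

/-!
# Tightly embedded subgroups: the Sylow lemma

Elementary facts about a pair of subgroups `Q`, `R` and a Sylow 2-subgroup `T` of `R ∩ N(Q)`.
-/

set_option autoImplicit false

namespace Cfsg.Agent.H23.TightSyl

open Subgroup

variable {G : Type*} [Group G]

theorem card_mul_relIndex {T B : Subgroup G} (hTB : T ≤ B) :
    Nat.card T * T.relIndex B = Nat.card B := by
  have := Subgroup.relIndex_mul_relIndex ⊥ T B bot_le hTB
  simpa using this

/-- a Sylow 2-subgroup of a subgroup has the largest order among its 2-subgroups -/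
theorem card_dvd [Finite G] {T B Y : Subgroup G} (hTB : T ≤ B)
    (hTs : ¬ 2 ∣ T.relIndex B) (hY : IsPGroup 2 Y) (hYB : Y ≤ B) : Nat.card Y ∣ Nat.card T := by
  have h1 : Nat.card T * T.relIndex B = Nat.card B := card_mul_relIndex hTB
  have h2 : Nat.card Y ∣ Nat.card B := Subgroup.card_dvd_of_le hYB
  have : Fact (Nat.Prime 2) := ⟨Nat.prime_two⟩
  obtain ⟨n, hn⟩ := IsPGroup.iff_card.1 hY
  rw [hn] at h2 ⊢
  rw [← h1] at h2
  refine Nat.Coprime.dvd_of_dvd_mul_right ?_ h2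
  exact Nat.Coprime.pow_left _ ((Nat.Prime.coprime_iff_not_dvd Nat.prime_two).2 hTs)

/-- conjugation into a Sylow subgroup of a subgroup -/
theorem exists_conj_le [Finite G] {S B Y : Subgroup G} (hS : IsPGroup 2 S)
    (hSs : ¬ 2 ∣ S.relIndex B) (hY : IsPGroup 2 Y) (hYB : Y ≤ B) :
    ∃ b ∈ B, Y.map (MulAut.conj b).toMonoidHom ≤ S := by
  have : Fact (Nat.Prime 2) := ⟨Nat.prime_two⟩
  have hS' : IsPGroup 2 (S.subgroupOf B) :=
    hS.comap_of_injective B.subtype (Subgroup.subtype_injective B)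
  have hY' : IsPGroup 2 (Y.subgroupOf B) :=
    hY.comap_of_injective B.subtype (Subgroup.subtype_injective B)
  obtain ⟨P, hP⟩ := hY'.exists_le_sylow
  obtain ⟨b, hb⟩ := MulAction.exists_smul_eq B P (hS'.toSylow hSs)
  refine ⟨b, b.2, ?_⟩
  rintro _ ⟨y, hy, rfl⟩
  have h1 : (⟨y, hYB hy⟩ : B) ∈ (P : Subgroup B) := hP (by simpa [Subgroup.mem_subgroupOf] using hy)
  have h2 : b * ⟨y, hYB hy⟩ * b⁻¹ ∈ (b • P : Sylow 2 B) := by
    have := Sylow.smul_def (g := b) (P := P)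
    show b * ⟨y, hYB hy⟩ * b⁻¹ ∈ ((b • P : Sylow 2 B) : Subgroup B)
    rw [Sylow.coe_subgroup_smul]
    exact Subgroup.smul_mem_pointwise_smul (⟨y, hYB hy⟩ : B) (MulAut.conj b) _ h1
  rw [hb] at h2
  have h3 : b * ⟨y, hYB hy⟩ * b⁻¹ ∈ S.subgroupOf B := h2
  simpa [Subgroup.mem_subgroupOf] using h3

/-- every 2-subgroup lies in a Sylow one -/
theorem exists_syl [Finite G] {B Y : Subgroup G} (hY : IsPGroup 2 Y) (hYB : Y ≤ B) :
    ∃ T : Subgroup G, Y ≤ T ∧ T ≤ B ∧ IsPGroup 2 T ∧ ¬ 2 ∣ T.relIndex B := by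
  have : Fact (Nat.Prime 2) := ⟨Nat.prime_two⟩
  have hY' : IsPGroup 2 (Y.subgroupOf B) :=
    hY.comap_of_injective B.subtype (Subgroup.subtype_injective B)
  obtain ⟨P, hP⟩ := hY'.exists_le_sylow
  refine ⟨(P : Subgroup B).map B.subtype, ?_, Subgroup.map_subtype_le _, P.2.map _, ?_⟩
  · intro y hy
    exact ⟨⟨y, hYB hy⟩, hP (by simpa [Subgroup.mem_subgroupOf] using hy), rfl⟩
  · have : ((P : Subgroup B).map B.subtype).relIndex B = (P : Subgroup B).index := by
      rw [Subgroup.relIndex, Subgroup.subgroupOf, Subgroup.comap_map_eq_self_of_injective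
        (Subgroup.subtype_injective B)]
    rw [this]
    exact P.not_dvd_index

/-- a 2-subgroup of maximal order among 2-subgroups is a Sylow one; two of them are isomorphic -/
theorem equiv_of_card [Finite G] {S B Y : Subgroup G} (hS : IsPGroup 2 S)
    (hSs : ¬ 2 ∣ S.relIndex B) (hY : IsPGroup 2 Y) (hYB : Y ≤ B)
    (hc : Nat.card S ≤ Nat.card Y) : Nonempty (Y ≃* S) := by
  obtain ⟨b, hb, hle⟩ := exists_conj_le hS hSs hY hYB
  have h1 : Nat.card (Y.map (MulAut.conj b).toMonoidHom) = Nat.card Y :=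
    Nat.card_congr (Y.equivMapOfInjective _ (MulAut.conj b).injective).toEquiv.symm
  have h2 : Y.map (MulAut.conj b).toMonoidHom = S := by
    apply Subgroup.eq_of_le_of_card_ge hle
    rw [h1]; exact hc
  exact ⟨(Y.equivMapOfInjective _ (MulAut.conj b).injective).trans (MulEquiv.subgroupCongr h2)⟩

/-- `N_G(T)` membership from stability of a finite subgroup -/
theorem mem_normalizer_of_map_le [Finite G] {T : Subgroup G} {y : G}
    (h : ∀ t ∈ T, y * t * y⁻¹ ∈ T) : y ∈ normalizer (T : Set G) := by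
  have h1 : T.map (MulAut.conj y).toMonoidHom ≤ T := by
    rintro _ ⟨t, ht, rfl⟩; exact h t ht
  have h2 : T.map (MulAut.conj y).toMonoidHom = T := by
    apply Subgroup.eq_of_le_of_card_ge h1
    exact (Nat.card_congr (T.equivMapOfInjective _ (MulAut.conj y).injective).toEquiv).le
  rw [Subgroup.mem_normalizer_iff]
  intro t
  refine ⟨fun ht => h t ht, fun ht => ?_⟩
  rw [← h2] at ht
  obtain ⟨s, hs, he⟩ := ht
  have : s = t := by
    have : y * s * y⁻¹ = y * t * y⁻¹ := he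
    simpa using this
  exact this ▸ hs

/-- a nontrivial 2-subgroup meeting a subgroup of odd order trivially -/
theorem eq_one_of_mem_odd [Finite G] {T D : Subgroup G} (hT : IsPGroup 2 T)
    (hD : Odd (Nat.card D)) {t : G} (ht : t ∈ T) (htD : t ∈ D) : t = 1 := by
  have : Fact (Nat.Prime 2) := ⟨Nat.prime_two⟩
  have h1 : T ⊓ D = ⊥ := by
    apply disjoint_iff.1
    apply Subgroup.disjoint_of_coprime_natCard
    obtain ⟨n, hn⟩ := IsPGroup.iff_card.1 hT
    rw [hn]
    exact Nat.Coprime.pow_left _ hD.coprime_two_left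
  have : t ∈ T ⊓ D := ⟨ht, htD⟩
  rw [h1] at this
  exact Subgroup.mem_bot.1 this

/-- the pair `(Q, R)`: a 2-subgroup `T` of `R ∩ N(Q)` and a 2-subgroup `S` between `T` and `QT` -/
structure Pair (Q R T S : Subgroup G) : Prop where
  odd : Odd (Nat.card ↥(Q ⊓ R))
  tight : ∀ y : G, y ∉ normalizer (R : Set G) →
    Odd (Nat.card ↥(R ⊓ R.map (MulAut.conj y).toMonoidHom))
  pT : IsPGroup 2 T
  pS : IsPGroup 2 S
  TR : T ≤ R
  TN : T ≤ normalizer (Q : Set G)
  T1 : T ≠ ⊥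
  TS : T ≤ S
  SQ : S ≤ Q ⊔ T
  Ss : ¬ 2 ∣ S.relIndex (Q ⊔ T)

namespace Pair

variable [Finite G] {Q R T S : Subgroup G} (h : Pair Q R T S)

include h

theorem inf_bot : T ⊓ Q = ⊥ := by
  rw [eq_bot_iff]
  intro t ht
  exact Subgroup.mem_bot.2 (eq_one_of_mem_odd h.pT h.odd ht.1 ⟨ht.2, h.TR ht.1⟩)

/-- the decomposition of an element of `S` -/
theorem exists_mul {s : G} (hs : s ∈ S) : ∃ q ∈ S ⊓ Q, ∃ t ∈ T, s = q * t := by
  obtain ⟨q, hq, t, ht, he⟩ : ∃ q ∈ Q, ∃ t ∈ T, q * t = s := by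
    have h3 : s ∈ ((Q ⊔ T : Subgroup G) : Set G) := h.SQ hs
    rw [Subgroup.coe_mul_of_right_le_normalizer_left Q T h.TN] at h3
    obtain ⟨q, hq, t, ht, he⟩ := h3
    exact ⟨q, hq, t, ht, he⟩
  refine ⟨q, ⟨?_, hq⟩, t, ht, he.symm⟩
  have : q = s * t⁻¹ := by rw [← he]; group
  rw [this]
  exact S.mul_mem hs (S.inv_mem (h.TS ht))

theorem comm {x t : G} (hx : x ∈ S ⊓ normalizer (T : Set G) ⊓ Q) (ht : t ∈ T) :
    x * t = t * x := by
  have h1 : x * t * x⁻¹ * t⁻¹ ∈ T ⊓ Q := by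
    refine ⟨T.mul_mem ((Subgroup.mem_normalizer_iff.1 hx.1.2 t).1 ht) (T.inv_mem ht), ?_⟩
    have : t * x⁻¹ * t⁻¹ ∈ Q := (Subgroup.mem_normalizer_iff.1 (h.TN ht) _).1 (Q.inv_mem hx.2)
    have h2 := Q.mul_mem hx.2 this
    simpa [mul_assoc] using h2
  rw [h.inf_bot, Subgroup.mem_bot] at h1
  have h2 : x * t * (t * x)⁻¹ = 1 := by rw [← h1]; group
  exact mul_inv_eq_one.1 h2

theorem commutator_bot : ⁅T, S ⊓ normalizer (T : Set G) ⊓ Q⁆ = ⊥ := by
  rw [eq_bot_iff, Subgroup.commutator_le]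
  intro t ht x hx
  rw [Subgroup.mem_bot, commutatorElement_def]
  have := h.comm hx ht
  rw [← this]; group

theorem sup_eq : T ⊔ (S ⊓ normalizer (T : Set G) ⊓ Q) = S ⊓ normalizer (T : Set G) := by
  apply le_antisymm
  · refine sup_le (le_inf h.TS Subgroup.le_normalizer) inf_le_left
  · intro s hs
    obtain ⟨q, hq, t, ht, he⟩ := h.exists_mul hs.1
    have : q = s * t⁻¹ := by rw [he]; group
    rw [he]
    refine Subgroup.mul_mem _ (Subgroup.mem_sup_right ⟨⟨hq.1, ?_⟩, hq.2⟩) (Subgroup.mem_sup_left ht)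
    rw [this]
    exact Subgroup.mul_mem _ hs.2 (Subgroup.inv_mem _ (Subgroup.le_normalizer ht))

/-- an element sending a nontrivial element of `T` into `R` -/
theorem mem_normalizer {y t : G} (ht : t ∈ T) (ht1 : t ≠ 1) (hy : y⁻¹ * t * y ∈ R) :
    y ∈ normalizer (R : Set G) := by
  by_contra hc
  refine ht1 (eq_one_of_mem_odd h.pT (h.tight y hc) ht ⟨h.TR ht, ⟨y⁻¹ * t * y, hy, ?_⟩⟩)
  simp [mul_assoc]

theorem exists_ne_one : ∃ t ∈ T, t ≠ 1 := by
  by_contra hc
  push Not at hc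
  exact h.T1 ((Subgroup.eq_bot_iff_forall T).2 hc)

theorem le_normalizer : S ⊓ normalizer (T : Set G) ⊓ Q ≤ normalizer (R : Set G) := by
  intro x hx
  obtain ⟨t, ht, ht1⟩ := h.exists_ne_one
  refine h.mem_normalizer ht ht1 ?_
  have := h.comm hx ht
  have h2 : x⁻¹ * t * x = t := by
    rw [mul_assoc, ← this]; group
  rw [h2]; exact h.TR ht

theorem exists_mul' {w : G} (hw : w ∈ S ⊓ normalizer (T : Set G)) :
    ∃ x ∈ S ⊓ normalizer (T : Set G) ⊓ Q, ∃ t ∈ T, w = x * t := by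
  obtain ⟨q, hq, t, ht, he⟩ := h.exists_mul hw.1
  have : q = w * t⁻¹ := by rw [he]; group
  refine ⟨q, ⟨⟨hq.1, ?_⟩, hq.2⟩, t, ht, he⟩
  rw [this]
  exact Subgroup.mul_mem _ hw.2 (Subgroup.inv_mem _ (Subgroup.le_normalizer ht))

/-- either `T` embeds in `N_S(T) ∩ Q`, or the latter is a Sylow 2-subgroup of `Q` -/
theorem dichotomy :
    (∃ f : T →* ↥(S ⊓ normalizer (T : Set G) ⊓ Q), Function.Injective f) ∨
      ¬ 2 ∣ (S ⊓ normalizer (T : Set G) ⊓ Q).relIndex Q := by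
  classical
  by_cases hc : S ≤ normalizer (T : Set G)
  · right
    have hX : S ⊓ normalizer (T : Set G) ⊓ Q = S ⊓ Q := by rw [inf_eq_left.2 hc]
    rw [hX]
    obtain ⟨Y, -, hYQ, hY2, hYs⟩ := exists_syl (B := Q) (Y := ⊥) IsPGroup.of_bot bot_le
    obtain ⟨b, hb, hle⟩ := exists_conj_le h.pS h.Ss hY2 (hYQ.trans le_sup_left)
    have hbN : b ∈ normalizer (Q : Set G) := (sup_le Subgroup.le_normalizer h.TN) hb
    have hle2 : Y.map (MulAut.conj b).toMonoidHom ≤ S ⊓ Q := by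
      refine le_inf hle ?_
      rintro _ ⟨y, hy, rfl⟩
      exact (Subgroup.mem_normalizer_iff.1 hbN y).1 (hYQ hy)
    have h1 : Nat.card (Y.map (MulAut.conj b).toMonoidHom) = Nat.card Y :=
      Nat.card_congr (Y.equivMapOfInjective _ (MulAut.conj b).injective).toEquiv.symm
    have h2 : Nat.card Y ∣ Nat.card ↥(S ⊓ Q) := h1 ▸ Subgroup.card_dvd_of_le hle2
    have h3 := card_mul_relIndex hYQ
    have h4 := card_mul_relIndex (T := S ⊓ Q) (B := Q) inf_le_right
    obtain ⟨k, hk⟩ := h2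
    rw [hk, ← h3, mul_assoc] at h4
    have h5 := Nat.eq_of_mul_eq_mul_left Nat.card_pos h4
    intro hd
    exact hYs (h5 ▸ hd.mul_left k)
  · left
    set W := S ⊓ normalizer (T : Set G) with hW
    have : Fact (Nat.Prime 2) := ⟨Nat.prime_two⟩
    obtain ⟨y, hyS, hyW, hyN⟩ : ∃ y ∈ S, y ∉ W ∧ ∀ w ∈ W, y * w * y⁻¹ ∈ W := by
      have hnil := h.pS.isNilpotent
      have hlt : W.subgroupOf S < ⊤ := by
        rw [lt_top_iff_ne_top]
        intro he
        apply hc
        intro s hs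
        have : (⟨s, hs⟩ : S) ∈ W.subgroupOf S := he ▸ Subgroup.mem_top _
        exact (Subgroup.mem_subgroupOf.1 this).2
      have hlt2 := Group.normalizerCondition_of_isNilpotent _ hlt
      obtain ⟨y, hy, hy2⟩ := SetLike.exists_of_lt hlt2
      refine ⟨y, y.2, fun hh => hy2 (Subgroup.mem_subgroupOf.2 hh), fun w hw => ?_⟩
      have := (Subgroup.mem_normalizer_iff.1 hy ⟨w, hw.1⟩).1 (Subgroup.mem_subgroupOf.2 hw)
      exact Subgroup.mem_subgroupOf.1 this
    have key : ∀ t ∈ T, y * t * y⁻¹ ∈ T → t = 1 := by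
      intro t ht hyt
      by_contra ht1
      have hyR : y ∈ normalizer (R : Set G) := by
        refine h.mem_normalizer hyt ?_ ?_
        · intro he; apply ht1; simpa using he
        · have : y⁻¹ * (y * t * y⁻¹) * y = t := by group
          rw [this]; exact h.TR ht
      have hyT : y ∈ normalizer (T : Set G) := by
        apply mem_normalizer_of_map_le
        intro s hs
        have hs1 : y * s * y⁻¹ ∈ W := hyN s ⟨h.TS hs, Subgroup.le_normalizer hs⟩
        have hs2 : y * s * y⁻¹ ∈ R := (Subgroup.mem_normalizer_iff.1 hyR s).1 (h.TR hs)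
        obtain ⟨x, hx, u, hu, he⟩ := h.exists_mul' hs1
        have hxR : x ∈ R := by
          have : x = (y * s * y⁻¹) * u⁻¹ := by rw [he]; group
          rw [this]; exact R.mul_mem hs2 (R.inv_mem (h.TR hu))
        have hx1 : x = 1 := eq_one_of_mem_odd h.pS h.odd hx.1.1 ⟨hx.2, hxR⟩
        rw [he, hx1, one_mul]; exact hu
      exact hyW ⟨hyS, hyT⟩
    have uniq : ∀ x ∈ S ⊓ normalizer (T : Set G) ⊓ Q, ∀ x' ∈ S ⊓ normalizer (T : Set G) ⊓ Q,
        ∀ t ∈ T, ∀ t' ∈ T, x * t = x' * t' → x = x' := by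
      intro x hx x' hx' t ht t' ht' he
      have h1 : x'⁻¹ * x = t' * t⁻¹ := by
        rw [inv_mul_eq_iff_eq_mul, ← mul_assoc, ← he]; group
      have h2 : x'⁻¹ * x ∈ T ⊓ Q := by
        refine ⟨?_, Q.mul_mem (Q.inv_mem hx'.2) hx.2⟩
        rw [h1]; exact T.mul_mem ht' (T.inv_mem ht)
      rw [h.inf_bot, Subgroup.mem_bot] at h2
      exact (inv_mul_eq_one.1 h2).symm
    have hex : ∀ t : T, ∃ x : ↥(S ⊓ normalizer (T : Set G) ⊓ Q), ∃ u ∈ T,
        y * (t : G) * y⁻¹ = x * u := by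
      intro t
      obtain ⟨x, hx, u, hu, he⟩ :=
        h.exists_mul' (hyN t ⟨h.TS t.2, Subgroup.le_normalizer t.2⟩)
      exact ⟨⟨x, hx⟩, u, hu, he⟩
    choose f u hu hf using hex
    refine ⟨MonoidHom.mk' f ?_, ?_⟩
    · intro a b
      apply Subtype.ext
      refine uniq _ (f (a * b)).2 _ (f a * f b).2 (u (a * b)) (hu _) (u a * u b)
        (T.mul_mem (hu a) (hu b)) ?_
      rw [← hf (a * b)]
      have e1 : y * ((a * b : T) : G) * y⁻¹ = (y * (a : G) * y⁻¹) * (y * (b : G) * y⁻¹) := by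
        push_cast; group
      rw [e1, hf a, hf b]
      have e2 := h.comm (f b).2 (hu a)
      push_cast
      calc (f a : G) * u a * (f b * u b) = f a * (u a * f b) * u b := by group
        _ = f a * (f b * u a) * u b := by rw [e2]
        _ = _ := by group
    · rw [injective_iff_map_eq_one]
      intro t ht
      have h1 : f t = 1 := ht
      have h2 := hf t
      rw [h1] at h2
      apply Subtype.ext
      refine key t t.2 ?_
      rw [h2]
      simpa using hu t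

end Pair

end Cfsg.Agent.H23.TightSyl
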